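import Cfsg.Agent.Lib.InvChar.QWQuat.Main
import Cfsg.Agent.Lib.Invol.QWGroups
import Cfsg.Agent.Lib.KnownC.AutPSLOut
import Cfsg.Agent.Lib.Fusion.ZStarCenter

/-!
# The commutator subgroup of an involution centraliser modulo core

Under quasi-dihedral or wreathed Sylow 2-subgroups a normal `SL₂(q)` of a group without odd core
is its commutator subgroup; with the classification of perfect groups with dihedral Sylow
2-subgroups this describes the centralisers of involutions.
-/

set_option autoImplicit false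
set_option linter.style.haveILetI false
set_option linter.unusedSectionVars false

namespace CfsgLib.InvChar.QWQuat.Comm

open Subgroup
open scoped MatrixGroups commutatorElement

universe u

/-- An abelian Sylow 2-subgroup meets the centre and the commutator subgroup trivially. -/
theorem eq_one_of_center_commutator {X : Type*} [Group X] [Finite X] (P : Sylow 2 X)
    (hab : ∀ a ∈ (P : Subgroup X), ∀ b ∈ (P : Subgroup X), a * b = b * a) {z : X}
    (hz : z ∈ center X) (hc : z ∈ _root_.commutator X) (h2 : IsPGroup 2 (zpowers z)) : z = 1 := by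
  haveI : Fact (Nat.Prime 2) := ⟨Nat.prime_two⟩
  letI : CommGroup (P : Subgroup X) :=
    { (inferInstance : Group (P : Subgroup X)) with
      mul_comm := fun a b => Subtype.ext (hab a a.2 b b.2) }
  let ϕ : (P : Subgroup X) →* (P : Subgroup X) := MonoidHom.id _
  have hzP : z ∈ (P : Subgroup X) := by
    obtain ⟨g, hg⟩ := CfsgLib.Invol.exists_conj_mem_sylow P h2
    have := hg z (mem_zpowers z)
    rwa [(mem_center_iff.1 hz g), mul_inv_cancel_right] at this
  have hkey : ∀ (k : ℕ) (g₀ : X), g₀⁻¹ * z ^ k * g₀ ∈ (P : Subgroup X) →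
      g₀⁻¹ * z ^ k * g₀ = z ^ k := fun k g₀ _ => by
    rw [mul_assoc, ← mem_center_iff.1 (pow_mem hz k) g₀, inv_mul_cancel_left]
  have h1 : MonoidHom.transfer ϕ z = 1 :=
    MonoidHom.mem_ker.1 (Abelianization.commutator_subset_ker (MonoidHom.transfer ϕ) hc)
  rw [MonoidHom.transfer_eq_pow ϕ z hkey] at h1
  have h3 : z ^ (P : Subgroup X).index = 1 := congrArg Subtype.val h1
  obtain ⟨k, hk⟩ := h2 ⟨z, mem_zpowers z⟩
  have h4 : z ^ 2 ^ k = 1 := congrArg Subtype.val hk
  have hco : Nat.Coprime (2 ^ k) (P : Subgroup X).index :=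
    Nat.Coprime.pow_left k (Nat.prime_two.coprime_iff_not_dvd.2 P.not_dvd_index)
  exact orderOf_eq_one_iff.1 (Nat.eq_one_of_dvd_coprimes hco (orderOf_dvd_of_pow_eq_one h4)
    (orderOf_dvd_of_pow_eq_one h3))

theorem isPGroup_zpowers_of_pow {X : Type*} [Group X] {x : X} {k : ℕ} (h : x ^ 2 ^ k = 1) :
    IsPGroup 2 (zpowers x) := fun ⟨y, hy⟩ => by
  obtain ⟨i, rfl⟩ := mem_zpowers_iff.1 hy
  refine ⟨k, Subtype.ext ?_⟩
  rw [Subgroup.coe_pow, Subgroup.coe_one, ← zpow_natCast, ← zpow_mul, mul_comm, zpow_mul,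
    zpow_natCast, h, one_zpow]

section SL

variable {F : Type*} [Field F] [Fintype F]

/-- The central involution of `SL₂` is a commutator. -/
theorem exists_central_commutator (hodd : Odd (Fintype.card F)) :
    ∃ A : SL(2, F), A ≠ 1 ∧ A ∈ center SL(2, F) ∧ A ∈ _root_.commutator SL(2, F) := by
  obtain ⟨p, hp⟩ := CharP.exists F
  haveI : Fact p.Prime := ⟨CharP.char_is_prime F p⟩
  haveI : NeZero p := ⟨(Fact.out : p.Prime).ne_zero⟩
  obtain ⟨a, b, hab⟩ := CharP.sq_add_sq F p (-1)
  have h2 : (2 : F) ≠ 0 := fun h => by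
    have hc := FiniteField.cast_card_eq_zero F
    obtain ⟨j, hj⟩ := hodd
    rw [hj, Nat.cast_add, Nat.cast_mul, Nat.cast_ofNat, h, zero_mul, zero_add, Nat.cast_one] at hc
    exact one_ne_zero hc
  have hab' : (a : F) ^ 2 + (b : F) ^ 2 = -1 := by simpa using hab
  let W : SL(2, F) := ⟨!![0, 1; -1, 0], by simp [Matrix.det_fin_two]⟩
  let U : SL(2, F) := ⟨!![(a : F), b; b, -(a : F)], by
    simp only [Matrix.det_fin_two_of]; linear_combination -hab'⟩
  let N : SL(2, F) := ⟨!![-1, 0; 0, -1], by simp [Matrix.det_fin_two]⟩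
  refine ⟨N, fun h => h2 ?_, mem_center_iff.2 fun g => ?_, ?_⟩
  · have h0 := congrFun (congrFun (congrArg Subtype.val h) 0) 0
    simp [N] at h0
    linear_combination -h0
  · apply Subtype.ext
    rw [Matrix.SpecialLinearGroup.coe_mul, Matrix.SpecialLinearGroup.coe_mul]
    ext i j
    fin_cases i <;> fin_cases j <;> simp [N, Matrix.mul_apply, Fin.sum_univ_two]
  · have hWU : W * U = N * (U * W) := by
      apply Subtype.ext
      simp only [Matrix.SpecialLinearGroup.coe_mul]
      ext i j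
      fin_cases i <;> fin_cases j <;> simp [W, U, N, Matrix.mul_apply, Fin.sum_univ_two]
    have hN : N = ⁅W, U⁆ := by
      rw [commutatorElement_def, hWU]; group
    rw [hN]
    exact commutator_mem_commutator (mem_top _) (mem_top _)

/-- The outer automorphism group of `PSL₂(q)` is abelian. -/
theorem out_psl_two_comm (x y : Cfsg.Out (Matrix.ProjectiveSpecialLinearGroup (Fin 2) F)) :
    x * y = y * x := by
  obtain ⟨φ, -, hc, hcard⟩ := CfsgLib.KnownC.exists_out_hom (F := F) (n := 2) le_rfl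
    (fun σ _ => σ) (fun _ _ _ _ _ => rfl) (fun _ _ _ _ => rfl)
    (fun σ a h e => ⟨e, by rw [h rfl, Nat.cast_zero]⟩) (fun m => ⟨m, 0, fun _ => rfl, rfl⟩)
  obtain ⟨p, hp⟩ := CharP.exists F
  obtain ⟨f, hpp, hf⟩ := FiniteField.card F p
  haveI : Fact p.Prime := ⟨hpp⟩
  obtain ⟨-, ⟨e⟩⟩ := CfsgLib.KnownC.exists_zmod_mulEquiv_ringAut hf
  haveI : IsCyclic (F ≃+* F) := isCyclic_of_surjective _ e.surjective
  refine commutative_of_cyclic_center_quotient φ (fun a ha => mem_center_iff.2 fun g => ?_) x y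
  have hle : Nat.card φ.ker ≤ 2 := hcard ▸ Nat.gcd_le_left _ two_pos
  by_cases h1 : a = 1
  · simp [h1]
  have hg : g * a * g⁻¹ ∈ φ.ker := (inferInstance : φ.ker.Normal).conj_mem a ha g
  by_contra hne
  haveI : Finite φ.ker := Nat.finite_of_card_ne_zero (by
    rw [hcard]; exact (Nat.gcd_pos_of_pos_left _ two_pos).ne')
  have hthree : Function.Injective (![⟨1, one_mem _⟩, ⟨a, ha⟩, ⟨g * a * g⁻¹, hg⟩] : Fin 3 → φ.ker) := by
    have hga : g * a * g⁻¹ ≠ a := fun h => hne (mul_inv_eq_iff_eq_mul.1 h)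
    have hg1 : g * a * g⁻¹ ≠ 1 := fun h => h1 (conj_eq_one_iff.1 h)
    intro i j h
    fin_cases i <;> fin_cases j <;>
      simp [Subtype.ext_iff, Ne.symm h1, h1, hga, Ne.symm hga, hg1, Ne.symm hg1] at h ⊢
  have := Nat.card_le_card_of_injective _ hthree
  rw [Nat.card_fin] at this
  omega

end SL

/-- What is used of a quasi-dihedral or wreathed group. -/
theorem qw_data {S : Type*} [Group S] (hS : Cfsg.IsQuasiDihedral S ∨ Cfsg.IsWreathed S) :
    ∃ A : Subgroup S, A.index = 2 ∧ (∀ a ∈ A, ∀ b ∈ A, Commute a b) ∧ IsCyclic (center S) ∧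
      ∃ a b : S, ⁅a, b⁆ ^ 2 ≠ 1 := by
  rcases hS with h | h
  · obtain ⟨D, -⟩ := CfsgLib.Invol.exists_qdData h
    refine ⟨zpowers D.x, D.index_zpowers, ?_, D.center_eq ▸ inferInstance, D.y, D.x, fun h => ?_⟩
    · rintro _ ⟨i, rfl⟩ _ ⟨j, rfl⟩
      exact (Commute.refl D.x).zpow_zpow i j
    · rw [commutatorElement_def, D.conj_x, ← zpow_neg_one, ← zpow_add, sq, ← zpow_add,
        D.zpow_eq_one_iff] at h
      obtain ⟨c, hc⟩ := h
      obtain ⟨e, he⟩ := D.even_m
      have h2 := D.two_le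
      have : (D.m : ℤ) ∣ 1 := ⟨1 - c, by linarith⟩
      have := Int.le_of_dvd one_pos this
      omega
  · obtain ⟨D⟩ := CfsgLib.Invol.exists_wrData h
    refine ⟨D.A, D.index_A, ?_, D.center_eq ▸ inferInstance, D.t, D.el 1 0, fun h => ?_⟩
    · rintro _ ⟨i, j, rfl⟩ _ ⟨a, b, rfl⟩
      exact D.el_commute i j a b
    · rw [commutatorElement_def, D.t_mul_el, mul_assoc (D.el 0 1), mul_inv_cancel, mul_one,
        D.el_inv, D.el_mul, sq, D.el_mul, D.el_eq_one_iff] at h
      have h2 := Int.le_of_dvd (by norm_num) h.2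
      have h3 : (4 : ℤ) ≤ D.N := by
        unfold CfsgLib.Invol.WrData.N
        calc (4 : ℤ) = 2 ^ 2 := by norm_num
          _ ≤ 2 ^ D.n := pow_le_pow_right₀ (by norm_num) D.two_le
      omega

section TwoGroup

variable {S : Type*} [Group S] {A : Subgroup S} (hA : A.index = 2)
  (hab : ∀ a ∈ A, ∀ b ∈ A, Commute a b)
include hA hab

theorem comm_left {v a c : S} (hv : v ∉ A) (ha : a ∈ A) (hc : c ∈ A) :
    ⁅a, c * v⁆ = ⁅a, v⁆ := by
  haveI := normal_of_index_eq_two hA
  have hw : v * a⁻¹ * v⁻¹ ∈ A := (inferInstance : A.Normal).conj_mem _ (inv_mem ha) v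
  calc ⁅a, c * v⁆ = a * (c * (v * a⁻¹ * v⁻¹) * c⁻¹) := by rw [commutatorElement_def]; group
    _ = a * (v * a⁻¹ * v⁻¹) := by rw [(hab c hc _ hw).eq, mul_inv_cancel_right]
    _ = ⁅a, v⁆ := by rw [commutatorElement_def]; group

/-- With an abelian subgroup of index two, all commutators are commutators with a fixed outside
element. -/
theorem exists_comm_eq {v : S} (hv : v ∉ A) (s t : S) : ∃ a ∈ A, ⁅s, t⁆ = ⁅a, v⁆ := by
  haveI := normal_of_index_eq_two hA
  have hdec : ∀ w : S, w ∉ A → w * v⁻¹ ∈ A := fun w hw =>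
    (mul_mem_iff_of_index_two hA).2 (by simp [hw, hv])
  have hx : ∀ c ∈ A, ∀ w : S, w ∉ A → ⁅c, w⁆ = ⁅c, v⁆ := fun c hc w hw => by
    have := comm_left hA hab hv hc (hdec w hw)
    rwa [inv_mul_cancel_right] at this
  by_cases hs : s ∈ A <;> by_cases ht : t ∈ A
  · exact ⟨1, one_mem A, by
      rw [commutatorElement_eq_one_iff_commute.2 (hab s hs t ht), commutatorElement_one_left]⟩
  · exact ⟨s, hs, hx s hs t ht⟩
  · refine ⟨t⁻¹, inv_mem ht, ?_⟩
    rw [← commutatorElement_inv, hx t ht s hs]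
    have hw : v * t⁻¹ * v⁻¹ ∈ A := (inferInstance : A.Normal).conj_mem _ (inv_mem ht) v
    calc ⁅t, v⁆⁻¹ = (t * (v * t⁻¹ * v⁻¹))⁻¹ := by rw [commutatorElement_def]; group
      _ = (v * t⁻¹ * v⁻¹ * t)⁻¹ := by rw [(hab t ht _ hw).eq]
      _ = ⁅t⁻¹, v⁆ := by rw [commutatorElement_def]; group
  · set c := s * v⁻¹
    set d := t * v⁻¹
    have hc : c ∈ A := hdec s hs
    have hd : d ∈ A := hdec t ht
    refine ⟨c * d⁻¹, mul_mem hc (inv_mem hd), ?_⟩
    have hw : v * d * c⁻¹ * v⁻¹ ∈ A := by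
      have := (inferInstance : A.Normal).conj_mem _ (mul_mem hd (inv_mem hc)) v
      simpa [mul_assoc] using this
    calc ⁅s, t⁆ = c * ((v * d * c⁻¹ * v⁻¹) * d⁻¹) := by
          simp only [c, d, commutatorElement_def]; group
      _ = c * (d⁻¹ * (v * d * c⁻¹ * v⁻¹)) := by rw [(hab _ hw _ (inv_mem hd)).eq]
      _ = ⁅c * d⁻¹, v⁆ := by rw [commutatorElement_def]; group

/-- Commutators lie in every normal non-abelian subgroup. -/
theorem comm_mem {T : Subgroup S} [hT : T.Normal] (hTn : ¬ T ≤ A) (s t : S) : ⁅s, t⁆ ∈ T := by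
  obtain ⟨v, hvT, hv⟩ := SetLike.not_le_iff_exists.1 hTn
  obtain ⟨a, -, e⟩ := exists_comm_eq hA hab hv s t
  rw [e, commutatorElement_def]
  exact mul_mem (hT.conj_mem v hvT a) (inv_mem hvT)

/-- The centraliser of a normal non-abelian subgroup is central. -/
theorem centralizer_le_center {T : Subgroup S} [T.Normal] (hTna : ∃ p ∈ T, ∃ q ∈ T, ¬ Commute p q) :
    centralizer (T : Set S) ≤ center S := by
  obtain ⟨p, hp, q, hq, hpq⟩ := hTna
  have hTn : ¬ T ≤ A := fun h => hpq (hab p (h hp) q (h hq))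
  obtain ⟨v, hvT, hv⟩ := SetLike.not_le_iff_exists.1 hTn
  have hcen : ∀ z : S, z ∈ A → Commute z v → z ∈ center S := fun z hz hzv =>
    mem_center_iff.2 fun g => by
      by_cases hg : g ∈ A
      · exact hab g hg z hz
      · have hgv : g * v⁻¹ ∈ A := (mul_mem_iff_of_index_two hA).2 (by simp [hg, hv])
        have := (((hab z hz _ hgv)).mul_right hzv).eq
        rw [inv_mul_cancel_right] at this
        exact this.symm
  intro z hz
  have hzT : ∀ w ∈ T, Commute z w := fun w hw => (mem_centralizer_iff.1 hz w hw).symm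
  by_cases hzA : z ∈ A
  · exact hcen z hzA (hzT v hvT)
  · exfalso
    -- then `T ∩ A` is central and `T` is abelian
    have hTA : ∀ w ∈ T, w ∈ A → ∀ g : S, Commute w g := fun w hw hwA g => by
      by_cases hg : g ∈ A
      · exact hab w hwA g hg
      · have hgz : g * z⁻¹ ∈ A := (mul_mem_iff_of_index_two hA).2 (by simp [hg, hzA])
        have := ((hab w hwA _ hgz).mul_right (hzT w hw).symm).eq
        rw [inv_mul_cancel_right] at this
        exact this
    refine hpq ?_
    by_cases hpA : p ∈ A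
    · exact hTA p hp hpA q
    by_cases hqA : q ∈ A
    · exact (hTA q hq hqA p).symm
    have hpq' : q * p⁻¹ ∈ A := (mul_mem_iff_of_index_two hA).2 (by simp [hpA, hqA])
    have := ((hTA _ (mul_mem hq (inv_mem hp)) hpq' p).symm.mul_right (Commute.refl p)).eq
    rw [inv_mul_cancel_right] at this
    exact this

end TwoGroup

variable {H : Type u} [Group H] [Finite H]

/-- A normal `SL₂(q)` of a group without odd core and with quasi-dihedral or wreathed Sylow
2-subgroups is the commutator subgroup. -/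
theorem commutator_eq_of_normal_sl_two (S : Sylow 2 H)
    (hS : Cfsg.IsQuasiDihedral (S : Subgroup H) ∨ Cfsg.IsWreathed (S : Subgroup H))
    (hO : Cfsg.oddCore H = ⊥) (L : Subgroup H) [hLn : L.Normal] {F : Type*} [Field F] [Fintype F]
    (hodd : Odd (Fintype.card F)) (e : L ≃* SL(2, F)) : _root_.commutator H = L := by
  classical
  haveI : Fact (Nat.Prime 2) := ⟨Nat.prime_two⟩
  obtain ⟨A, hA, hab, hcyc, a₀, b₀, hab₀⟩ := qw_data hS
  haveI := normal_of_index_eq_two hA
  set T : Subgroup (S : Subgroup H) := L.subgroupOf S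
  haveI : T.Normal := inferInstanceAs (L.subgroupOf (S : Subgroup H)).Normal
  -- 2-subgroups of `L` are abelian if `T` is
  have hTna : ∃ p ∈ T, ∃ q ∈ T, ¬ Commute p q := by
    by_contra hcon
    push Not at hcon
    obtain ⟨P⟩ := (inferInstance : Nonempty (Sylow 2 L))
    obtain ⟨g, hg⟩ := CfsgLib.Invol.exists_conj_mem_sylow S
      (P.isPGroup'.map L.subtype : IsPGroup 2 ((P : Subgroup L).map L.subtype))
    have hP : ∀ x ∈ (P : Subgroup L), ∀ y ∈ (P : Subgroup L), x * y = y * x := fun x hx y hy => by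
      have hxS := hg x ⟨x, hx, rfl⟩
      have hyS := hg y ⟨y, hy, rfl⟩
      have h := congrArg Subtype.val (hcon ⟨_, hxS⟩ (mem_subgroupOf.2 (hLn.conj_mem _ x.2 g))
        ⟨_, hyS⟩ (mem_subgroupOf.2 (hLn.conj_mem _ y.2 g))).eq
      refine Subtype.ext ((MulAut.conj g).injective ?_)
      simp only [MulAut.conj_apply, Subgroup.coe_mul]
      simp only [Subgroup.coe_mul] at h
      calc g * ((x : H) * y) * g⁻¹ = g * x * g⁻¹ * (g * y * g⁻¹) := by group
        _ = g * y * g⁻¹ * (g * x * g⁻¹) := h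
        _ = g * ((y : H) * x) * g⁻¹ := by group
    obtain ⟨N, hN1, hNc, hNk⟩ := exists_central_commutator hodd
    refine hN1 ?_
    have hN2 : N * N = 1 := center_sq hNc
    have h0 : e.symm N = 1 := by
      refine eq_one_of_center_commutator P hP (mem_center_iff.2 fun y => e.injective ?_) ?_
        (isPGroup_zpowers_of_pow (k := 1) (by rw [pow_one, sq, ← map_mul, hN2, map_one]))
      · rw [map_mul, map_mul, e.apply_symm_apply]
        exact mem_center_iff.1 hNc (e y)
      · have := mem_map_of_mem e.symm.toMonoidHom hNk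
        rwa [_root_.commutator_def, map_commutator, ← MonoidHom.range_eq_map,
          MonoidHom.range_eq_top.2 e.symm.surjective, ← _root_.commutator_def] at this
    rw [← e.apply_symm_apply N, h0, map_one]
  have hTA : ¬ T ≤ A := fun h => by
    obtain ⟨p, hp, q, hq, hpq⟩ := hTna
    exact hpq (hab p (h hp) q (h hq))
  have hSL : ∀ s ∈ (S : Subgroup H), ∀ t ∈ (S : Subgroup H), ⁅s, t⁆ ∈ L := fun s hs t ht => by
    have := mem_subgroupOf.1 (comm_mem hA hab hTA ⟨s, hs⟩ ⟨t, ht⟩ (T := T))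
    simpa [commutatorElement_def] using this
  -- the centraliser of `L` is a central 2-group
  set Z : Subgroup H := centralizer (L : Set H)
  haveI hZn : Z.Normal := inferInstance
  have hZS : ∀ z ∈ Z, ∀ hz : z ∈ (S : Subgroup H),
      (⟨z, hz⟩ : (S : Subgroup H)) ∈ center (S : Subgroup H) := fun z hzZ hz =>
    centralizer_le_center hA hab hTna (mem_centralizer_iff.2 fun w hw =>
      Subtype.ext (mem_centralizer_iff.1 hzZ w (mem_subgroupOf.1 hw)))
  let P : Sylow 2 Z := Classical.arbitrary _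
  have hZcore : Cfsg.oddCore Z = ⊥ := by
    haveI : (Cfsg.oddCore Z).Characteristic := CfsgLib.Solvable.pPrimeCore_characteristic 2 Z
    have hle : (Cfsg.oddCore Z).map Z.subtype ≤ Cfsg.oddCore H := CfsgLib.Invol.le_oddCore
      inferInstance (by rw [card_map_of_injective Z.subtype_injective]
                        exact CfsgLib.Invol.odd_card_oddCore Z)
    rwa [hO, le_bot_iff, map_eq_bot_iff_of_injective _ Z.subtype_injective] at hle
  have hPc : IsCyclic (P : Subgroup Z) := by
    obtain ⟨g, hg⟩ := CfsgLib.Invol.exists_conj_mem_sylow S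
      (P.isPGroup'.map Z.subtype : IsPGroup 2 ((P : Subgroup Z).map Z.subtype))
    let f : (P : Subgroup Z) →* center (S : Subgroup H) :=
      MonoidHom.mk' (fun x => ⟨⟨g * (x : Z) * g⁻¹, hg _ ⟨x, x.2, rfl⟩⟩,
        hZS _ (hZn.conj_mem _ (x : Z).2 g) _⟩) fun x y => by
        apply Subtype.ext; apply Subtype.ext
        show g * (((x : Z) : H) * ((y : Z) : H)) * g⁻¹ = g * ((x : Z) : H) * g⁻¹ * (g * ((y : Z) : H) * g⁻¹)
        group
    refine isCyclic_of_injective f fun x y h => ?_
    have h' : g * ((x : Z) : H) * g⁻¹ = g * ((y : Z) : H) * g⁻¹ :=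
      congrArg (fun w : center (S : Subgroup H) => ((w : (S : Subgroup H)) : H)) h
    exact Subtype.ext (Subtype.ext ((MulAut.conj g).injective h'))
  have hZ2 : IsPGroup 2 Z := by
    by_cases hev : 2 ∣ Nat.card Z
    · have hmin : (Nat.card Z).minFac = 2 := (Nat.minFac_eq_two_iff _).2 hev
      have hcompl := MonoidHom.ker_transferSylow_isComplement' P
        (hPc.normalizer_le_centralizer hmin)
      set K := (MonoidHom.transferSylow P (hPc.normalizer_le_centralizer hmin)).ker
      have hKodd : Odd (Nat.card K) := by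
        have h1 : Nat.card K = (P : Subgroup Z).index := by
          have h2 := hcompl.card_mul
          rw [← (P : Subgroup Z).index_mul_card] at h2
          exact Nat.eq_of_mul_eq_mul_right Nat.card_pos h2
        rw [h1, ← Nat.not_even_iff_odd, even_iff_two_dvd]
        exact P.not_dvd_index
      have hK : Nat.card K = 1 := by
        rw [card_eq_one, ← le_bot_iff, ← hZcore]
        exact CfsgLib.Invol.le_oddCore inferInstance hKodd
      have hPt : Nat.card (P : Subgroup Z) = Nat.card Z := by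
        rw [← hcompl.card_mul, hK, one_mul]
      obtain ⟨n, hn⟩ := IsPGroup.iff_card.1 P.isPGroup'
      exact IsPGroup.of_card (hPt.symm.trans hn)
    · have : Cfsg.oddCore Z = ⊤ := top_le_iff.1 (CfsgLib.Invol.le_oddCore inferInstance (by
        rw [card_top, ← Nat.not_even_iff_odd, even_iff_two_dvd]; exact hev))
      rw [hZcore] at this
      exact IsPGroup.of_card (n := 0) (by rw [← card_top (G := Z), ← this, card_bot, pow_zero])
  have hZle : Z ≤ (S : Subgroup H) := fun z hz => by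
    obtain ⟨g, hg⟩ := CfsgLib.Invol.exists_conj_mem_sylow S hZ2
    have := hg (g⁻¹ * z * g) (by simpa using hZn.conj_mem z hz g⁻¹)
    exact (show z = g * (g⁻¹ * z * g) * g⁻¹ by group) ▸ this
  have hZcyc : IsCyclic Z := by
    let f : Z →* center (S : Subgroup H) :=
      MonoidHom.mk' (fun x => ⟨⟨x, hZle x.2⟩, hZS x x.2 _⟩) fun x y => rfl
    exact isCyclic_of_injective f fun x y h => Subtype.ext
      (congrArg (fun w : center (S : Subgroup H) => ((w : (S : Subgroup H)) : H)) h)
  have hZcen : Z ≤ center H := by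
    set c : H →* MulAut Z := MulAut.conjNormal
    have haut : IsPGroup 2 (MulAut Z) := by
      obtain ⟨n, hn⟩ := IsPGroup.iff_card.1 hZ2
      rcases n with _ | n
      · exact IsPGroup.of_card (n := 0) (by
          rw [IsCyclic.card_mulAut, hn, pow_zero, Nat.totient_one])
      · exact IsPGroup.of_card (n := n) (by
          rw [IsCyclic.card_mulAut, hn, Nat.totient_prime_pow Nat.prime_two (Nat.succ_pos n)]
          simp)
    have hSc : (S : Subgroup H) ≤ c.ker := fun s hs => by
      refine MonoidHom.mem_ker.2 (MulEquiv.ext fun z => Subtype.ext ?_)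
      rw [MulAut.conjNormal_apply, MulAut.one_apply]
      have h1 := congrArg Subtype.val (mem_center_iff.1 (hZS z z.2 (hZle z.2)) ⟨s, hs⟩)
      simp only [Subgroup.coe_mul] at h1
      rw [h1, mul_inv_cancel_right]
    have htriv : c.ker = ⊤ := by
      rw [← index_eq_one, index_ker]
      obtain ⟨n, hn⟩ := IsPGroup.iff_card.1 (haut.to_subgroup c.range)
      rcases n with _ | n
      · rw [hn, pow_zero]
      · refine absurd ?_ S.not_dvd_index
        refine (dvd_trans (b := c.ker.index) ?_ (index_dvd_of_le hSc))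
        rw [index_ker, hn]
        exact dvd_pow_self 2 n.succ_ne_zero
    intro z hz
    refine mem_center_iff.2 fun g => ?_
    have h1 := congrArg Subtype.val
      (DFunLike.congr_fun (MonoidHom.mem_ker.1 (htriv ▸ mem_top g)) (⟨z, hz⟩ : Z))
    rw [MulAut.conjNormal_apply, MulAut.one_apply] at h1
    exact mul_inv_eq_iff_eq_mul.1 h1
  -- the quotient by `L` and the centraliser is abelian
  have hLZ : ∀ x y : H, ⁅x, y⁆ ∈ L ⊔ Z := by
    obtain ⟨β, hβ⟩ := exists_center_quotient_hom L
    have hmap : (center L).map (e : L →* SL(2, F)) = center SL(2, F) := by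
      ext y
      obtain ⟨w, rfl⟩ := e.surjective y
      simp only [Subgroup.mem_map, mem_center_iff]
      constructor
      · rintro ⟨v, hv, hvw⟩ u
        obtain ⟨u, rfl⟩ := e.surjective u
        rw [← show v = w from e.injective hvw, ← map_mul, ← map_mul, hv u]
      · exact fun h => ⟨w, fun u => e.injective (by rw [map_mul, map_mul]; exact h (e u)), rfl⟩
    let ē : L ⧸ center L ≃* Matrix.ProjectiveSpecialLinearGroup (Fin 2) F :=
      QuotientGroup.congr (center L) (center SL(2, F)) e hmap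
    let φ : H →* Cfsg.Out (Matrix.ProjectiveSpecialLinearGroup (Fin 2) F) :=
      (QuotientGroup.mk' _).comp ((MulAut.congr ē).toMonoidHom.comp (β.comp MulAut.conjNormal))
    intro x y
    have hker : φ ⁅x, y⁆ = 1 := by
      rw [map_commutatorElement, commutatorElement_eq_one_iff_commute]
      exact out_psl_two_comm _ _
    obtain ⟨q, hq⟩ : ∃ q, MulAut.conj q = MulAut.congr ē (β (MulAut.conjNormal ⁅x, y⁆)) :=
      (QuotientGroup.eq_one_iff _).1 hker
    obtain ⟨w, rfl⟩ := ē.surjective q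
    obtain ⟨l, rfl⟩ := QuotientGroup.mk_surjective w
    set c := ⁅x, y⁆
    set g := (l : H)⁻¹ * c
    have hmod : ∀ u : L, u⁻¹ * MulAut.conjNormal g u ∈ center L := fun u => by
      have h1 := DFunLike.congr_fun hq (ē (u : L ⧸ center L))
      simp only [MulAut.conj_apply] at h1
      rw [show (MulAut.congr ē (β (MulAut.conjNormal c))) (ē (u : L ⧸ center L)) =
        ē (β (MulAut.conjNormal c) (u : L ⧸ center L)) by simp [MulAut.congr], hβ, ← map_inv,
        ← map_mul, ← map_mul] at h1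
      have h2 := ē.injective h1
      rw [← QuotientGroup.mk_inv, ← QuotientGroup.mk_mul, ← QuotientGroup.mk_mul,
        QuotientGroup.eq] at h2
      have h3 : u⁻¹ * MulAut.conjNormal g u =
          l⁻¹ * (((l * u * l⁻¹)⁻¹ * MulAut.conjNormal c u)) * l := by
        apply Subtype.ext
        simp only [g, MulAut.conjNormal_apply, Subgroup.coe_mul, Subgroup.coe_inv]
        group
      rw [h3]
      simpa using (inferInstance : (center L).Normal).conj_mem _ h2 l⁻¹
    let d : L →* center L := MonoidHom.mk' (fun u => ⟨_, hmod u⟩) fun u v => by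
      apply Subtype.ext
      show (u * v)⁻¹ * MulAut.conjNormal g (u * v) =
        u⁻¹ * MulAut.conjNormal g u * (v⁻¹ * MulAut.conjNormal g v)
      rw [map_mul, mul_inv_rev]
      have h1 := mem_center_iff.1 (hmod u) v⁻¹
      calc v⁻¹ * u⁻¹ * (MulAut.conjNormal g u * MulAut.conjNormal g v)
          = v⁻¹ * (u⁻¹ * MulAut.conjNormal g u) * MulAut.conjNormal g v := by group
        _ = _ := by rw [h1, mul_assoc]
    have hP2 : IsPGroup 2 (center L) := fun z => ⟨1, Subtype.ext (e.injective (by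
      rw [pow_one, sq, Subgroup.coe_mul, Subgroup.coe_one, map_mul, map_one]
      exact center_sq (mem_center_iff.2 fun u => by
        obtain ⟨u, rfl⟩ := e.surjective u
        rw [← map_mul, ← map_mul, mem_center_iff.1 z.2 u])))⟩
    have hg : g ∈ Z := by
      refine mem_centralizer_iff.2 fun u hu => ?_
      have h1 := hom_two_group_trivial hodd hP2 (d.comp e.symm.toMonoidHom) (e ⟨u, hu⟩)
      simp only [MonoidHom.comp_apply, MulEquiv.coe_toMonoidHom, MulEquiv.symm_apply_apply] at h1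
      have h2 : (⟨u, hu⟩ : L)⁻¹ * MulAut.conjNormal g ⟨u, hu⟩ = 1 := congrArg Subtype.val h1
      have h3 := congrArg Subtype.val (inv_mul_eq_one.1 h2)
      rw [MulAut.conjNormal_apply] at h3
      exact (mul_inv_eq_iff_eq_mul.1 h3.symm).symm
    rw [show c = (l : H) * g from (mul_inv_cancel_left _ _).symm]
    exact mul_mem (mem_sup_left l.2) (mem_sup_right hg)
  -- so the quotient by `L` is abelian
  have hle : _root_.commutator H ≤ L := by
    set π := QuotientGroup.mk' L
    have hπ : Function.Surjective π := QuotientGroup.mk'_surjective L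
    have hab' : ∀ a ∈ ((S.mapSurjective hπ : Sylow 2 (H ⧸ L)) : Subgroup (H ⧸ L)),
        ∀ b ∈ ((S.mapSurjective hπ : Sylow 2 (H ⧸ L)) : Subgroup (H ⧸ L)), a * b = b * a := by
      rintro _ ⟨s, hs, rfl⟩ _ ⟨t, ht, rfl⟩
      refine commutatorElement_eq_one_iff_mul_comm.1 ?_
      rw [← map_commutatorElement]
      exact (QuotientGroup.eq_one_iff _).2 (hSL s hs t ht)
    rw [_root_.commutator_def, commutator_le]
    intro x _ y _
    obtain ⟨l, hl, z, hz, hlz⟩ := mem_sup_of_normal_right.1 (hLZ x y)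
    refine (QuotientGroup.eq_one_iff _).1 (eq_one_of_center_commutator _ hab' ?_ ?_ ?_ : π ⁅x, y⁆ = 1)
    · rw [← hlz, map_mul, show π l = 1 from (QuotientGroup.eq_one_iff _).2 hl, one_mul]
      exact mem_center_iff.2 fun q => by
        obtain ⟨q, rfl⟩ := hπ q
        rw [← map_mul, ← map_mul, mem_center_iff.1 (hZcen hz) q]
    · rw [map_commutatorElement]
      exact commutator_mem_commutator (mem_top _) (mem_top _)
    · rw [← hlz, map_mul, show π l = 1 from (QuotientGroup.eq_one_iff _).2 hl, one_mul]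
      obtain ⟨k, hk⟩ := hZ2 ⟨z, hz⟩
      exact isPGroup_zpowers_of_pow (k := k) (by
        rw [← map_pow, show z ^ 2 ^ k = 1 from congrArg Subtype.val hk, map_one])
  -- and `L` is contained in the commutator subgroup
  refine le_antisymm hle ?_
  have hLL : ∀ a b : L, ((⁅a, b⁆ : L) : H) ∈ _root_.commutator H := fun a b => by
    have h1 : ⁅(a : H), (b : H)⁆ ∈ ⁅(⊤ : Subgroup H), ⊤⁆ :=
      commutator_mem_commutator (mem_top _) (mem_top _)
    rw [← _root_.commutator_def] at h1
    simpa [commutatorElement_def] using h1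
  by_cases hq : 3 < Fintype.card F
  · have hL : _root_.commutator L = ⊤ := CfsgLib.Recog.GW.commutator_eq_top_of_surjective
      e.symm.toMonoidHom e.symm.surjective (CfsgLib.Recog.GW.commutator_sl_two hq)
    intro x hx
    have h1 : _root_.commutator L ≤ (_root_.commutator H).comap L.subtype := by
      rw [_root_.commutator_def, commutator_le]
      exact fun a _ b _ => hLL a b
    exact h1 (hL ▸ mem_top (⟨x, hx⟩ : L))
  by_contra hnle
  set M : Subgroup H := _root_.commutator H with hMdef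
  set M₀ : Subgroup L := M.subgroupOf L
  haveI : M₀.Normal := inferInstanceAs (M.subgroupOf L).Normal
  have hcard : Nat.card L = 24 := by
    have := Fintype.one_lt_card (α := F)
    obtain ⟨j, hj⟩ := hodd
    rw [Nat.card_congr e.toEquiv, CfsgLib.Classical.card_sl_two_eq, show Fintype.card F = 3 by omega]
    norm_num
  -- the 2-elements of `L` are commutators
  have hQc : ∀ a b : L ⧸ M₀, a * b = b * a := fun a b => by
    obtain ⟨a, rfl⟩ := QuotientGroup.mk_surjective a
    obtain ⟨b, rfl⟩ := QuotientGroup.mk_surjective b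
    refine commutatorElement_eq_one_iff_mul_comm.1 ?_
    have := (QuotientGroup.eq_one_iff (N := M₀) ⁅a, b⁆).2 (mem_subgroupOf.2 (hLL a b))
    simpa [commutatorElement_def] using this
  let P₂ : Sylow 2 (L ⧸ M₀) := Classical.arbitrary _
  haveI : (P₂ : Subgroup (L ⧸ M₀)).Normal := ⟨fun n hn g => by
    rwa [hQc g n, mul_inv_cancel_right]⟩
  let f : L →* (P₂ : Subgroup (L ⧸ M₀)) :=
    MonoidHom.mk' (fun a => ⟨(a : L ⧸ M₀) ^ (P₂ : Subgroup (L ⧸ M₀)).index,
      pow_index_mem _ _⟩) fun a b => Subtype.ext (by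
        show ((a * b : L) : L ⧸ M₀) ^ (P₂ : Subgroup (L ⧸ M₀)).index = _
        exact (show Commute (a : L ⧸ M₀) b from hQc _ _).mul_pow _)
  have htwo : ∀ a : L, (∃ k : ℕ, a ^ 2 ^ k = 1) → (a : H) ∈ M := by
    rintro a ⟨k, hk⟩
    have h1 : ((a : L ⧸ M₀) ^ (P₂ : Subgroup (L ⧸ M₀)).index) = 1 := by
      have := hom_two_group_trivial hodd P₂.isPGroup' (f.comp e.symm.toMonoidHom) (e a)
      simp only [MonoidHom.comp_apply, MulEquiv.coe_toMonoidHom, MulEquiv.symm_apply_apply] at this
      exact congrArg Subtype.val this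
    have h2 : ((a : L ⧸ M₀) ^ 2 ^ k) = 1 := by rw [← QuotientGroup.mk_pow, hk, QuotientGroup.mk_one]
    have hco : Nat.Coprime (2 ^ k) (P₂ : Subgroup (L ⧸ M₀)).index :=
      Nat.Coprime.pow_left k (Nat.prime_two.coprime_iff_not_dvd.2 P₂.not_dvd_index)
    exact mem_subgroupOf.1 ((QuotientGroup.eq_one_iff (N := M₀) a).1 (orderOf_eq_one_iff.1
      (Nat.eq_one_of_dvd_coprimes hco (orderOf_dvd_of_pow_eq_one h2) (orderOf_dvd_of_pow_eq_one h1))))
  obtain ⟨v₀, hv₀T, hv₀⟩ := SetLike.not_le_iff_exists.1 hTA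
  obtain ⟨a₁, ha₁, ew⟩ := exists_comm_eq hA hab hv₀ a₀ b₀
  set w := ⁅a₁, v₀⁆
  have hw2 : w ^ 2 ≠ 1 := ew ▸ hab₀
  have hwT : w ∈ T := comm_mem hA hab hTA a₁ v₀
  have hwA : w ∈ A := by
    rw [show w = a₁ * (v₀ * a₁⁻¹ * v₀⁻¹) by simp only [w, commutatorElement_def]; group]
    exact mul_mem ha₁ ((inferInstance : A.Normal).conj_mem _ (inv_mem ha₁) v₀)
  -- orders: `T` has order eight and `T ⊓ A` is generated by `w`
  have hTcard : Nat.card T ∣ 8 := by
    have h1 : Nat.card T ∣ Nat.card L := by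
      rw [Nat.card_congr ((T.equivMapOfInjective _ (S : Subgroup H).subtype_injective)).toEquiv]
      exact card_dvd_of_le (by rintro _ ⟨x, hx, rfl⟩; exact mem_subgroupOf.1 hx)
    obtain ⟨n, hn⟩ := IsPGroup.iff_card.1 ((S.isPGroup').to_subgroup T)
    rw [hn, hcard] at h1
    rw [hn]
    refine (Nat.Coprime.dvd_of_dvd_mul_right (k := 2 ^ n) (n := 3) (m := 8)
      (Nat.Coprime.pow_left n (by norm_num)) ?_)
    exact h1
  obtain ⟨n, hn3, hTn⟩ := (Nat.dvd_prime_pow Nat.prime_two (m := 3)).1 hTcard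
  have hlt : Nat.card (T ⊓ A : Subgroup (S : Subgroup H)) < Nat.card T := by
    refine lt_of_le_of_ne (card_le_of_le inf_le_left) fun h => hTA ?_
    exact (eq_of_le_of_card_ge inf_le_left h.ge) ▸ inf_le_right
  obtain ⟨k, hk, hTAn⟩ := (Nat.dvd_prime_pow Nat.prime_two).1
    ((card_dvd_of_le (inf_le_left : T ⊓ A ≤ T)).trans hTn.dvd)
  have hword : orderOf w ∣ 2 ^ k := hTAn ▸ (T ⊓ A).orderOf_dvd_natCard ⟨hwT, hwA⟩
  have hk2 : 2 ≤ k := by
    by_contra h
    refine hw2 (orderOf_dvd_iff_pow_eq_one.1 (hword.trans ?_))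
    exact (pow_dvd_pow 2 (show k ≤ 1 by omega)).trans (by norm_num)
  have hkn : k < n := by
    rw [hTAn, hTn] at hlt
    exact (Nat.pow_lt_pow_iff_right (by norm_num)).1 hlt
  obtain rfl : n = 3 := by omega
  obtain rfl : k = 2 := by omega
  have hwo : orderOf w = 4 := by
    have h1 := (Nat.dvd_prime_pow Nat.prime_two).1 hword
    obtain ⟨i, hi, e1⟩ := h1
    interval_cases i
    · exact absurd (by rw [orderOf_eq_one_iff.1 (e1.trans (pow_zero 2)), one_pow]) hw2
    · exact absurd (orderOf_dvd_iff_pow_eq_one.1 (e1 ▸ dvd_rfl)) hw2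
    · exact e1
  have hTA4 : zpowers w = T ⊓ A := eq_of_le_of_card_ge (zpowers_le.2 ⟨hwT, hwA⟩)
    (by rw [hTAn, Nat.card_zpowers, hwo]; norm_num)
  -- `M` is `T`
  have hTM : ∀ x ∈ T, ((x : (S : Subgroup H)) : H) ∈ M := fun x hx => by
    obtain ⟨j, hj⟩ := S.isPGroup' x
    exact htwo ⟨x, mem_subgroupOf.1 hx⟩ ⟨j, Subtype.ext (congrArg Subtype.val hj :)⟩
  have hMT : T.map (S : Subgroup H).subtype = M := by
    refine eq_of_le_of_card_ge (by rintro _ ⟨x, hx, rfl⟩; exact hTM x hx) ?_
    rw [card_map_of_injective (S : Subgroup H).subtype_injective, hTn]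
    have hd : Nat.card M ∣ 24 := hcard ▸ card_dvd_of_le hle
    have h8 : 8 ∣ Nat.card M := by
      have := card_dvd_of_le (show T.map (S : Subgroup H).subtype ≤ M by
        rintro _ ⟨x, hx, rfl⟩; exact hTM x hx)
      rw [card_map_of_injective (S : Subgroup H).subtype_injective, hTn] at this
      simpa using this
    obtain ⟨c, hc⟩ := h8
    have h24 : Nat.card M ≠ 24 := fun h =>
      hnle (eq_of_le_of_card_ge hle (by rw [h, hcard])).ge
    rw [hc] at hd h24 ⊢
    have hc3 : c ≤ 3 := by have := Nat.le_of_dvd (by norm_num) hd; omega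
    interval_cases c
    · simp at hd
    · norm_num
    · norm_num at hd
    · omega
  -- a conjugate of `w` outside its own group
  obtain ⟨r, hr⟩ : ∃ r : L, (r : H) * (w : (S : Subgroup H)) * (r : H)⁻¹ ∉ zpowers ((w : (S : Subgroup H)) : H) := by
    by_contra hcon
    push Not at hcon
    set W : Subgroup H := zpowers ((w : (S : Subgroup H)) : H)
    have hWn : ∀ r : L, (r : H) ∈ normalizer (W : Set H) := fun r => by
      refine mem_normalizer_iff.2 fun x => ⟨fun hx => ?_, fun hx => ?_⟩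
      · obtain ⟨i, rfl⟩ := mem_zpowers_iff.1 hx
        rw [← conj_zpow]
        exact zpow_mem (hcon r) i
      · obtain ⟨i, hi⟩ := mem_zpowers_iff.1 hx
        have h1 := hcon r⁻¹
        rw [Subgroup.coe_inv, inv_inv] at h1
        have : x = (r : H)⁻¹ * ((w : (S : Subgroup H)) : H) ^ i * r := by rw [hi]; group
        rw [this]
        have h2 : ((r : H)⁻¹ * ((w : (S : Subgroup H)) : H) * ((r : H)⁻¹)⁻¹) ^ i ∈ W :=
          zpow_mem (by rwa [inv_inv]) i
        rwa [conj_zpow, inv_inv] at h2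
    let c : L →* MulAut W := W.normalizerMonoidHom.comp
      (MonoidHom.mk' (fun r : L => (⟨r, hWn r⟩ : normalizer (W : Set H))) fun _ _ => rfl)
    have hW4 : Nat.card W = 4 := by rw [Nat.card_zpowers, Subgroup.orderOf_coe, hwo]
    have haut : IsPGroup 2 (MulAut W) := IsPGroup.of_card (n := 1) (by
      rw [IsCyclic.card_mulAut, hW4]; rfl)
    have hfix : ∀ r : L, (r : H) * (w : (S : Subgroup H)) = (w : (S : Subgroup H)) * (r : H) := fun r => by
      have h1 := hom_two_group_trivial hodd haut (c.comp e.symm.toMonoidHom) (e r)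
      simp only [MonoidHom.comp_apply, MulEquiv.coe_toMonoidHom, MulEquiv.symm_apply_apply] at h1
      have h2 := congrArg Subtype.val (DFunLike.congr_fun h1 ⟨_, mem_zpowers _⟩)
      exact mul_inv_eq_iff_eq_mul.1 h2
    set wL : L := ⟨_, mem_subgroupOf.1 hwT⟩
    have h3 : e wL * e wL = 1 := center_sq (mem_center_iff.2 fun u => by
      obtain ⟨u, rfl⟩ := e.surjective u
      rw [← map_mul, ← map_mul]
      exact congrArg e (Subtype.ext (hfix u)))
    rw [← map_mul, ← map_one e] at h3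
    refine hw2 (Subtype.ext ?_)
    rw [sq]
    exact congrArg (fun u : L => (u : H)) (e.injective h3)
  set v := (r : H) * (w : (S : Subgroup H)) * (r : H)⁻¹ with hvdef
  haveI hMn : M.Normal := inferInstanceAs (_root_.commutator H).Normal
  have hwM : ((w : (S : Subgroup H)) : H) ∈ M := hTM w hwT
  obtain ⟨vS, hvT, hvS⟩ : v ∈ T.map (S : Subgroup H).subtype := hMT.symm ▸ hMn.conj_mem _ hwM r
  change ((vS : (S : Subgroup H)) : H) = v at hvS
  have hvA : vS ∉ A := fun h => hr (by
    have h1 : vS ∈ zpowers w := hTA4 ▸ ⟨hvT, h⟩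
    obtain ⟨i, hi⟩ := mem_zpowers_iff.1 h1
    exact mem_zpowers_iff.2 ⟨i, (congrArg Subtype.val hi).trans hvS⟩)
  have hvo : orderOf v = 4 := by rw [hvdef, CfsgLib.Invol.orderOf_conj_eq, Subgroup.orderOf_coe, hwo]
  set V : Subgroup H := zpowers v
  have hVM : V ≤ M := zpowers_le.2 (hMn.conj_mem _ hwM r)
  have hVn : (V.subgroupOf M).Normal := normal_of_index_eq_two (by
    have h1 := relIndex_mul_index (H := V) (K := M) hVM
    have h2 := (V.subgroupOf M).card_mul_index
    have hM8 : Nat.card M = 8 := by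
      rw [← hMT, card_map_of_injective (S : Subgroup H).subtype_injective, hTn]; norm_num
    have h3 : Nat.card (V.subgroupOf M) = 4 := by
      rw [Nat.card_congr (subgroupOfEquivOfLe hVM).toEquiv, Nat.card_zpowers, hvo]
    rw [h3, hM8] at h2
    omega)
  -- every element of `S` normalises `V`
  have hnorm : ∀ s : (S : Subgroup H), (s : H) * v * (s : H)⁻¹ ∈ V := fun s => by
    haveI : (T ⊓ A).Normal := inferInstance
    have hsw : s * w * s⁻¹ ∈ zpowers w := hTA4 ▸ (inferInstance : (T ⊓ A).Normal).conj_mem w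
      (hTA4 ▸ mem_zpowers w) s
    obtain ⟨i, hi⟩ := mem_zpowers_iff.1 hsw
    have hi' : (s : H) * (w : (S : Subgroup H)) * (s : H)⁻¹ = ((w : (S : Subgroup H)) : H) ^ i := by
      have := congrArg Subtype.val hi
      simpa using this.symm
    have hc : ⁅(s : H), (r : H)⁆ ∈ M := commutator_mem_commutator (mem_top _) (mem_top _)
    have hrw : (s : H) * v * (s : H)⁻¹ = ⁅(s : H), (r : H)⁆ *
        ((r : H) * ((s : H) * (w : (S : Subgroup H)) * (s : H)⁻¹) * (r : H)⁻¹) * ⁅(s : H), (r : H)⁆⁻¹ := by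
      rw [hvdef, commutatorElement_def]; group
    rw [hrw, hi', ← conj_zpow, ← hvdef]
    have hvi : v ^ i ∈ V := zpow_mem (mem_zpowers v) i
    exact mem_subgroupOf.1 (hVn.conj_mem ⟨v ^ i, hVM hvi⟩ (mem_subgroupOf.2 hvi) ⟨_, hc⟩)
  obtain ⟨a, ha, ea⟩ := exists_comm_eq hA hab hvA a₀ b₀
  refine hab₀ ?_
  rw [ea]
  have hcA : ⁅a, vS⁆ ∈ A := by
    rw [show ⁅a, vS⁆ = a * (vS * a⁻¹ * vS⁻¹) by rw [commutatorElement_def]; group]
    exact mul_mem ha ((inferInstance : A.Normal).conj_mem _ (inv_mem ha) vS)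
  have hcV : ⁅a, vS⁆ ∈ zpowers vS := by
    have h1 : ((⁅a, vS⁆ : (S : Subgroup H)) : H) ∈ V := by
      rw [show ((⁅a, vS⁆ : (S : Subgroup H)) : H) = (a : H) * v * (a : H)⁻¹ * v⁻¹ by
        simp [commutatorElement_def, hvS]]
      exact mul_mem (hnorm a) (inv_mem (mem_zpowers v))
    obtain ⟨i, hi⟩ := mem_zpowers_iff.1 h1
    exact mem_zpowers_iff.2 ⟨i, Subtype.ext (by rw [← hi, ← hvS]; rfl)⟩
  obtain ⟨i, hi⟩ := mem_zpowers_iff.1 hcV
  obtain ⟨j, rfl | rfl⟩ := Int.even_or_odd' i
  · have h4 : vS ^ (4 : ℤ) = 1 := Subtype.ext (by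
      rw [Subgroup.coe_zpow, Subgroup.coe_one, hvS, show (4 : ℤ) = ((4 : ℕ) : ℤ) by norm_num,
        zpow_natCast, ← hvo, pow_orderOf_eq_one])
    rw [← hi, sq, ← zpow_add, show 2 * j + 2 * j = 4 * j by ring, zpow_mul, h4, one_zpow]
  · exfalso
    refine hvA ?_
    have h2 : vS ^ (2 * j) ∈ A := by
      rw [zpow_mul]
      refine zpow_mem ?_ j
      rw [zpow_two]
      exact mul_self_mem_of_index_two hA vS
    rw [zpow_add, zpow_one] at hi
    have := mul_mem (inv_mem h2) (hi ▸ hcA)
    rwa [inv_mul_cancel_left] at this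

/-- The commutator subgroup of an involution centraliser modulo core, from the classification of
perfect groups with dihedral Sylow 2-subgroups. -/
theorem commutator_centralizer_quotient {G : Type u} [Group G] [Finite G]
    (hGW : CfsgLib.Recog.GW.PerfectDihedral.{u}) (S : Sylow 2 G)
    (hS : Cfsg.IsQuasiDihedral (S : Subgroup G) ∨ Cfsg.IsWreathed (S : Subgroup G))
    (hG : ∀ H : Subgroup G, H.index ≠ 2) (t : G) (ht : orderOf t = 2) :
    ∃ (F : Type) (_ : Field F) (_ : Fintype F), Odd (Fintype.card F) ∧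
      Nonempty (↥(commutator (↥(Subgroup.centralizer ({t} : Set G)) ⧸
        Cfsg.oddCore ↥(Subgroup.centralizer ({t} : Set G)))) ≃* Matrix.SpecialLinearGroup (Fin 2) F) := by
  classical
  haveI : Fact (Nat.Prime 2) := ⟨Nat.prime_two⟩
  set C := Subgroup.centralizer ({t} : Set G) with hC
  set O := Cfsg.oddCore C
  obtain ⟨R, hRc, ⟨K, hKn, ⟨a, hKa⟩, hK2, hKq⟩, -⟩ :
      ∃ R : Sylow 2 C, Nat.card R = Nat.card S ∧
      (∃ K : Subgroup C, K.Normal ∧ (∃ a : ℕ, K.index = 2 ^ a) ∧
        (∀ H : Subgroup K, H.index ≠ 2) ∧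
        (∀ P : Sylow 2 K, ∃ m : ℕ, 1 ≤ m ∧ Nonempty ((P : Subgroup K) ≃* QuaternionGroup (2 ^ m)))) ∧
      ∀ Z₀ : Subgroup C, Z₀ ≤ (center (R : Subgroup C)).map (R : Subgroup C).subtype →
        Cfsg.IsWeaklyClosed Z₀ (R : Subgroup C) :=
    CfsgLib.Invol.qw_centralizer S hS hG t ht
  -- the Sylow subgroup of `C` has the type of `S`
  have hRQ : CfsgLib.Invol.IsQW (R : Subgroup C) := by
    let TG : Sylow 2 G := Sylow.ofCard ((R : Subgroup C).map C.subtype) (by
      rw [card_map_of_injective C.subtype_injective]; exact hRc.trans S.card_eq_multiplicity)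
    exact CfsgLib.Invol.IsQW.congr ((TG.equiv S).symm.trans
      ((R : Subgroup C).equivMapOfInjective _ C.subtype_injective).symm) hS
  set π := QuotientGroup.mk' O
  have hπ : Function.Surjective π := QuotientGroup.mk'_surjective O
  have hinj : ∀ P : Subgroup C, IsPGroup 2 P → Function.Injective (π.subgroupMap P) := fun P hP => by
    refine (injective_iff_map_eq_one _).2 fun x hx => ?_
    have h1 : (x : C) ∈ O := (QuotientGroup.eq_one_iff _).1 (congrArg Subtype.val hx)
    obtain ⟨k, hk⟩ := hP x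
    have h2 : orderOf (x : C) ∣ 2 ^ k := orderOf_dvd_of_pow_eq_one (congrArg Subtype.val hk)
    refine Subtype.ext (orderOf_eq_one_iff.1 (Nat.eq_one_of_dvd_coprimes
      (Nat.Coprime.pow_left k ?_) h2 (O.orderOf_dvd_natCard h1)))
    exact Nat.coprime_two_left.2 (CfsgLib.Invol.odd_card_oddCore C)
  have hequiv : ∀ P : Subgroup C, IsPGroup 2 P → Nonempty (P ≃* P.map π) := fun P hP =>
    ⟨MulEquiv.ofBijective _ ⟨hinj P hP, π.subgroupMap_surjective P⟩⟩
  let R' : Sylow 2 (C ⧸ O) := R.mapSurjective hπ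
  have hR' : CfsgLib.Invol.IsQW (R' : Subgroup (C ⧸ O)) := by
    obtain ⟨e⟩ := hequiv R R.isPGroup'
    exact hRQ.congr e
  set K' : Subgroup (C ⧸ O) := K.map π
  haveI : K'.Normal := hKn.map π hπ
  obtain ⟨a', -, hK'a⟩ := (Nat.dvd_prime_pow Nat.prime_two).1
    (hKa ▸ (index_map_dvd K hπ) : K'.index ∣ 2 ^ a)
  have hK'2 : ∀ M : Subgroup K', M.index ≠ 2 := fun M hM =>
    hK2 (M.comap (π.subgroupMap K))
      (by rw [index_comap_of_surjective _ (π.subgroupMap_surjective K), hM])
  have hK'q : ∀ P : Sylow 2 K', ∃ m : ℕ, 1 ≤ m ∧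
      Nonempty ((P : Subgroup K') ≃* QuaternionGroup (2 ^ m)) := fun P => by
    obtain ⟨Q, rfl⟩ := Sylow.mapSurjective_surjective (π.subgroupMap_surjective K) 2 P
    obtain ⟨m, hm, ⟨e⟩⟩ := hKq Q
    have hi : Function.Injective ((π.subgroupMap K).subgroupMap (Q : Subgroup K)) := by
      refine (injective_iff_map_eq_one _).2 fun x hx => ?_
      have h1 : π (((x : K) : C)) = 1 :=
        congrArg (fun y : (Q : Subgroup K).map (π.subgroupMap K) => ((y : K') : C ⧸ O)) hx
      have h3 := hinj ((Q : Subgroup K).map K.subtype) (Q.isPGroup'.map _)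
        (a₁ := ⟨_, ⟨(x : K), x.2, rfl⟩⟩) (a₂ := 1) (Subtype.ext (by simpa using h1))
      exact Subtype.ext (Subtype.ext (congrArg Subtype.val h3 :))
    exact ⟨m, hm, ⟨((MulEquiv.ofBijective _
      ⟨hi, (π.subgroupMap K).subgroupMap_surjective _⟩).symm).trans e⟩⟩
  have hO : Cfsg.oddCore (C ⧸ O) = ⊥ := CfsgLib.Fusion.oddCore_quotient_oddCore
  obtain ⟨L, hLn, ⟨F, iF, iF', hodd, ⟨e⟩⟩, -⟩ :=
    normal_sl_two hGW R' hR' hO K' hK'a hK'2 hK'q
  refine ⟨F, iF, iF', hodd, ⟨?_⟩⟩
  rw [commutator_eq_of_normal_sl_two R' hR' hO L hodd e]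
  exact e

end CfsgLib.InvChar.QWQuat.Comm
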