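import Cfsg.Agent.Lib.Invol.Wreathed
import Cfsg.Agent.Lib.Invol.QuasiDihedral
import Cfsg.Agent.Lib.Invol.RankOne
import Cfsg.Agent.Lib.Transfer.Focal
import Cfsg.Agent.Lib.Fusion.GroupFusion
import Cfsg.Agent.S2119
import Cfsg.Prelude.Def_SporadicB
import Mathlib

/-!
# The double cover of `A₇` does not occur under quasi-dihedral or wreathed Sylow 2-subgroups

If a group has a normal double cover `X` of `A₇` in which the central involution is the only one,
then fourth powers of 2-elements centralise `X`, which is impossible in a quasi-dihedral or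
wreathed group containing a Sylow 2-subgroup of `X`.
-/

set_option autoImplicit false
set_option linter.style.haveILetI false

namespace CfsgLib.InvChar.QWQuat

open Subgroup
open scoped commutatorElement

/-- A nonabelian subgroup of order 16 with one involution, centralised by all fourth powers, is
absent from quasi-dihedral and wreathed groups. -/
theorem no_sixteen {S : Type*} [Group S] [Finite S] (hS : Cfsg.IsQuasiDihedral S ∨ Cfsg.IsWreathed S)
    (P : Subgroup S) (hP : Nat.card P = 16) (hna : ¬ IsMulCommutative P)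
    (huniq : ∀ a ∈ P, ∀ b ∈ P, orderOf a = 2 → orderOf b = 2 → a = b)
    (h4 : ∀ s : S, ∀ p ∈ P, Commute (s ^ 4) p) : False := by
  rcases hS with h | h
  · obtain ⟨D, n, hn, hm, hc⟩ := CfsgLib.Invol.exists_qdData h
    rcases Nat.lt_or_ge n 4 with hn4 | hn4
    · obtain rfl : n = 3 := by omega
      have htop : P = ⊤ := eq_top_of_card_eq _ (by rw [hP, hc]; norm_num)
      have hm2 : D.m = 2 := by rw [hm]; norm_num
      have hzo : orderOf (D.x ^ (4 : ℕ)) = 2 := by
        rw [orderOf_pow' _ (by norm_num), D.orderOf_x, hm2]; norm_num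
      have := huniq D.y (htop ▸ mem_top _) (D.x ^ (4 : ℕ)) (htop ▸ mem_top _) D.orderOf_y hzo
      exact D.y_notMem (this ▸ pow_mem (mem_zpowers _) 4)
    · have hm4 : 4 ≤ D.m := by
        rw [hm]
        exact le_trans (by norm_num) (Nat.pow_le_pow_right (by norm_num) (show 2 ≤ n - 2 by omega))
      have hle : P ≤ zpowers D.x := by
        intro p hp
        rcases D.cases p with ⟨i, rfl⟩ | ⟨i, rfl⟩
        · exact zpow_mem (mem_zpowers _) i
        · exfalso
          have h1 : D.x ^ (4 : ℤ) * (D.x ^ i * D.y) = D.x ^ i * D.y * D.x ^ (4 : ℤ) := by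
            have := h4 D.x _ hp
            rw [← zpow_natCast] at this
            exact_mod_cast this.eq
          rw [← mul_assoc, ← zpow_add, D.mul_rule_zy, D.zpow_mul_y_eq_iff] at h1
          have h2 : (D.m : ℤ) ∣ 2 := by
            obtain ⟨k, hk⟩ := h1
            refine ⟨2 - k, ?_⟩
            have : (D.m : ℤ) * (2 - k) * 4 = 2 * 4 := by linear_combination hk
            omega
          have := Int.le_of_dvd (by norm_num) h2
          omega
      exact hna ⟨⟨fun a b => Subtype.ext ((Commute.zpow_zpow (Commute.refl D.x)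
        (Classical.choose (mem_zpowers_iff.1 (hle a.2))) (Classical.choose (mem_zpowers_iff.1 (hle b.2))))
        |> fun h => by
          rw [Classical.choose_spec (mem_zpowers_iff.1 (hle a.2)),
            Classical.choose_spec (mem_zpowers_iff.1 (hle b.2))] at h
          exact h.eq)⟩⟩
  · obtain ⟨D⟩ := CfsgLib.Invol.exists_wrData h
    rcases Nat.lt_or_ge D.n 3 with hn | hn
    · have hn2 : D.n = 2 := by have := D.two_le; omega
      have hidx : P.index = 2 := by
        have h1 := P.card_mul_index
        rw [hP, D.card_eq, hn2] at h1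
        norm_num at h1
        omega
      have hx2 : orderOf (D.x ^ 2) = 2 := by
        rw [orderOf_pow' _ (by norm_num), D.orderOf_x, hn2]; norm_num
      have hy2 : orderOf (D.y ^ 2) = 2 := by
        rw [orderOf_pow' _ (by norm_num), D.orderOf_y, hn2]; norm_num
      have e := huniq _ (sq_mem_of_index_two hidx D.x) _ (sq_mem_of_index_two hidx D.y) hx2 hy2
      have h1 : D.x ^ 2 ∈ zpowers D.x ⊓ zpowers D.y :=
        ⟨pow_mem (mem_zpowers _) 2, e ▸ pow_mem (mem_zpowers _) 2⟩
      rw [D.inter, mem_bot] at h1
      rw [h1, orderOf_one] at hx2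
      norm_num at hx2
    · have hle : P ≤ D.A := by
        intro p hp
        rcases D.cases p with ⟨i, j, rfl⟩ | ⟨i, j, rfl⟩
        · exact D.el_mem_A i j
        · exfalso
          have h1 : Commute (D.el 4 0) (D.el i j * D.t) := by
            have := h4 D.x _ hp
            rwa [← zpow_natCast, show D.x = D.el 1 0 by simp [CfsgLib.Invol.WrData.el], D.el_zpow,
              show (1 : ℤ) * ((4 : ℕ) : ℤ) = 4 by norm_num, show (0 : ℤ) * ((4 : ℕ) : ℤ) = 0 by norm_num]
              at this
          rw [D.el_commute_t_iff, sub_zero] at h1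
          have h2 := Int.le_of_dvd (by norm_num) h1
          have h3 : (2 : ℤ) ^ 3 ≤ 2 ^ D.n := pow_le_pow_right₀ (by norm_num) hn
          simp only [CfsgLib.Invol.WrData.N] at h2
          omega
      refine hna ⟨⟨fun a b => Subtype.ext ?_⟩⟩
      obtain ⟨i, j, hi⟩ := hle a.2
      obtain ⟨k, l, hk⟩ := hle b.2
      show (a : S) * b = b * a
      rw [hi, hk]
      exact (D.el_commute i j k l).eq

/-- Fourth powers kill the 2-elements of the symmetric group of degree seven. -/
theorem perm_seven_pow_four {σ : Equiv.Perm (Fin 7)} {k : ℕ} (h : σ ^ 2 ^ k = 1) : σ ^ 4 = 1 := by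
  rw [← orderOf_dvd_iff_pow_eq_one, ← Equiv.Perm.lcm_cycleType, Multiset.lcm_dvd]
  intro c hc
  have h7 : c ≤ 7 := le_trans (Multiset.le_sum_of_mem hc)
    (by rw [Equiv.Perm.sum_cycleType]; exact (Finset.card_le_univ _).trans_eq (Fintype.card_fin 7))
  have hd : c ∣ 2 ^ k :=
    (Equiv.Perm.lcm_cycleType σ ▸ Multiset.dvd_lcm hc : c ∣ orderOf σ).trans (orderOf_dvd_of_pow_eq_one h)
  obtain ⟨j, -, rfl⟩ := (Nat.dvd_prime_pow Nat.prime_two).1 hd
  have hj : j ≤ 2 := by
    by_contra hj
    have := Nat.pow_le_pow_right (show 1 ≤ 2 by norm_num) (show 3 ≤ j by omega)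
    omega
  exact (pow_dvd_pow 2 hj).trans (by norm_num)

variable {H : Type*} [Group H] [Finite H]

/-- An element acting trivially modulo the centre of a perfect normal subgroup centralises it. -/
theorem commute_of_mod_center {X : Subgroup H} [X.Normal] (hperf : _root_.commutator X = ⊤) {g : H}
    (h : ∀ x : X, x⁻¹ * MulAut.conjNormal g x ∈ center X) : ∀ x ∈ X, Commute g x := by
  set c : MulAut X := MulAut.conjNormal g
  have hfix : ∀ x y : X, c ⁅x, y⁆ = ⁅x, y⁆ := fun x y => by
    have e : ∀ w, c w = w * (w⁻¹ * c w) := fun w => (mul_inv_cancel_left w _).symm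
    have hcen : ∀ a b z : X, z ∈ center X → ⁅a * z, b⁆ = ⁅a, b⁆ ∧ ⁅a, b * z⁆ = ⁅a, b⁆ :=
      fun a b z hz => by
        have hza : Commute z b := (mem_center_iff.1 hz b).symm
        have hzb : Commute z a⁻¹ := (mem_center_iff.1 hz a⁻¹).symm
        constructor
        · rw [commutatorElement_def, commutatorElement_def, mul_assoc a z b, hza.eq, mul_inv_rev]
          group
        · rw [commutatorElement_def, commutatorElement_def, mul_inv_rev, mul_assoc a (b * z) a⁻¹,
            mul_assoc b z a⁻¹, hzb.eq]
          group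
    rw [map_commutatorElement, e x, e y, (hcen _ _ _ (h x)).1, (hcen _ _ _ (h y)).2]
  have hle : _root_.commutator X ≤ c.toMonoidHom.eqLocus (MonoidHom.id X) := by
    rw [_root_.commutator_def, commutator_le]
    exact fun x _ y _ => hfix x y
  rw [hperf] at hle
  intro x hx
  have h2 : c ⟨x, hx⟩ = ⟨x, hx⟩ := hle (x := ⟨x, hx⟩) (mem_top _)
  have h3 := congrArg Subtype.val h2
  rw [MulAut.conjNormal_apply] at h3
  exact mul_inv_eq_iff_eq_mul.1 h3

/-- The automorphism induced on the central quotient. -/
theorem exists_center_quotient_hom (X : Type*) [Group X] :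
    ∃ β : MulAut X →* MulAut (X ⧸ center X), ∀ (α : MulAut X) (x : X), β α x = (α x : X ⧸ center X) := by
  have hmap : ∀ α : MulAut X, (center X).map (α : X →* X) = center X := fun α => by
    refine le_antisymm ?_ fun z hz => ?_
    · rintro _ ⟨z, hz, rfl⟩
      refine mem_center_iff.2 fun y => α.symm.injective ?_
      rw [map_mul, map_mul]
      show α.symm y * α.symm (α z) = α.symm (α z) * α.symm y
      rw [α.symm_apply_apply]
      exact mem_center_iff.1 hz _
    · refine ⟨α.symm z, mem_center_iff.2 fun y => α.injective ?_, α.apply_symm_apply z⟩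
      rw [map_mul, map_mul, α.apply_symm_apply]
      exact mem_center_iff.1 hz _
  refine ⟨MonoidHom.mk' (fun α => QuotientGroup.congr _ _ α (hmap α)) fun a b => ?_, fun α x => rfl⟩
  refine MulEquiv.ext fun q => ?_
  induction q using QuotientGroup.induction_on with
  | _ x => rfl

/-- A normal double cover of `A₇` with a single involution excludes quasi-dihedral and wreathed
Sylow 2-subgroups. -/
theorem alt_seven_false (S : Sylow 2 H)
    (hS : Cfsg.IsQuasiDihedral (S : Subgroup H) ∨ Cfsg.IsWreathed (S : Subgroup H))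
    (X : Subgroup H) [X.Normal] (hperf : _root_.commutator X = ⊤) (hcard : Nat.card (center X) = 2)
    (e : X ⧸ center X ≃* alternatingGroup (Fin 7))
    (hk : ∀ E : Subgroup X, ¬ IsKleinFour E) : False := by
  haveI : Fact (Nat.Prime 2) := ⟨Nat.prime_two⟩
  let d : Equiv.Perm (Fin 7) ≃* MulAut (alternatingGroup (Fin 7)) :=
    MulEquiv.ofBijective _ (Cfsg.Agent.S2119.result 7 (by norm_num) (by norm_num))
  obtain ⟨β, hβ⟩ := exists_center_quotient_hom X
  let ψ : H →* Equiv.Perm (Fin 7) := (d.symm.toMonoidHom.comp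
    ((MulAut.congr e).toMonoidHom.comp β)).comp MulAut.conjNormal
  -- fourth powers centralise `X`
  have h4 : ∀ s ∈ (S : Subgroup H), ∀ x ∈ X, Commute (s ^ 4) x := by
    intro s hs
    obtain ⟨k, hk'⟩ := S.2 ⟨s, hs⟩
    have hsk : s ^ 2 ^ k = 1 := congrArg Subtype.val hk'
    have h1 : ψ (s ^ 4) = 1 := by
      rw [map_pow]
      exact perm_seven_pow_four (k := k) (by rw [← map_pow, hsk, map_one])
    have h2 : β (MulAut.conjNormal (s ^ 4)) = 1 := by
      apply (MulAut.congr e).injective
      apply d.symm.injective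
      rw [map_one (MulAut.congr e), map_one d.symm]
      exact h1
    refine commute_of_mod_center hperf fun x => ?_
    have h3 := DFunLike.congr_fun h2 (x : X ⧸ center X)
    rw [hβ, MulAut.one_apply, QuotientGroup.eq] at h3
    simpa using inv_mem h3
  -- a Sylow 2-subgroup of `X` inside `S`
  obtain ⟨T, hT⟩ := CfsgLib.Transfer.exists_sylow_eq_subgroupOf S X
  have hX : Nat.card X = 5040 := by
    rw [card_eq_card_quotient_mul_card_subgroup (center X), Nat.card_congr e.toEquiv, hcard,
      nat_card_alternatingGroup, Nat.card_fin]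
    rfl
  have hT16 : Nat.card (T : Subgroup X) = 16 := by
    obtain ⟨j, hj⟩ := IsPGroup.iff_card.1 T.2
    have h1 : 2 ^ 4 ∣ Nat.card (T : Subgroup X) :=
      T.pow_dvd_card_of_pow_dvd_card (hX ▸ by norm_num)
    have h2 : Nat.card (T : Subgroup X) ∣ 5040 := hX ▸ card_subgroup_dvd_card _
    rw [hj] at h1 h2 ⊢
    have hj4 : 4 ≤ j := (Nat.pow_dvd_pow_iff_le_right (by norm_num)).1 h1
    have hj5 : j < 5 := by
      by_contra hc
      exact absurd ((pow_dvd_pow 2 (show 5 ≤ j by omega)).trans h2) (by norm_num)
    rw [show j = 4 by omega]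
    norm_num
  have hTna : ¬ IsMulCommutative (T : Subgroup X) := by
    intro hc
    rcases CfsgLib.Invol.rankOne_sylow hk T with hcy | ⟨j, ⟨f⟩⟩
    · obtain ⟨g, hg⟩ := hcy.exists_generator
      have hgo : orderOf g = 16 := by rw [orderOf_eq_card_of_forall_mem_zpowers hg, hT16]
      have h1 : (g : X) ^ 4 ∈ center X := by
        rw [← QuotientGroup.eq_one_iff, ← e.map_eq_one_iff, QuotientGroup.mk_pow, map_pow]
        have h0 : e (g : X) ^ 2 ^ 4 = 1 := by
          rw [← map_pow, ← QuotientGroup.mk_pow, ← SubmonoidClass.coe_pow,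
            show (2 : ℕ) ^ 4 = orderOf g by rw [hgo]; norm_num, pow_orderOf_eq_one]
          exact map_one e
        exact Subtype.ext (by
          rw [SubmonoidClass.coe_pow]
          exact perm_seven_pow_four (k := 4) (by rw [← SubmonoidClass.coe_pow, h0]; rfl))
      have h2 := pow_card_eq_one' (G := center X) (x := ⟨_, h1⟩)
      rw [hcard] at h2
      have h3 : g ^ 8 = 1 := Subtype.ext (by
        have := congrArg Subtype.val h2
        rw [SubmonoidClass.coe_pow]
        simpa [← pow_mul] using this)
      have := orderOf_dvd_of_pow_eq_one h3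
      rw [hgo] at this
      norm_num at this
    · haveI : NeZero (2 ^ j) := ⟨by positivity⟩
      have hj : 2 ^ j = 4 := by
        have := Nat.card_congr f.toEquiv
        rw [hT16, Nat.card_eq_fintype_card, QuaternionGroup.card] at this
        omega
      have := hc.is_comm.comm (f.symm (QuaternionGroup.a 1)) (f.symm (QuaternionGroup.xa 0))
      rw [← map_mul, ← map_mul] at this
      have h8 := f.symm.injective this
      simp only [QuaternionGroup.a_mul_xa, QuaternionGroup.xa_mul_a, QuaternionGroup.xa.injEq] at h8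
      revert h8
      generalize hq : 2 ^ j = q at *
      subst hj
      decide
  set P : Subgroup (S : Subgroup H) := X.subgroupOf (S : Subgroup H) with hPdef
  have heq : (T : Subgroup X).map X.subtype = P.map (S : Subgroup H).subtype := by
    rw [hT, hPdef, subgroupOf_map_subtype, subgroupOf_map_subtype, inf_comm]
  refine no_sixteen hS P ?_ ?_ ?_ fun s p hp => Subtype.ext (h4 s s.2 p hp).eq
  · rw [← card_map_of_injective (K := P) (S : Subgroup H).subtype_injective, ← heq,
      card_map_of_injective X.subtype_injective, hT16]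
  · intro hc
    refine hTna ⟨⟨fun a b => Subtype.ext (Subtype.ext ?_)⟩⟩
    obtain ⟨a', ha', hae⟩ := mem_map.1 (heq.le (mem_map_of_mem X.subtype a.2))
    obtain ⟨b', hb', hbe⟩ := mem_map.1 (heq.le (mem_map_of_mem X.subtype b.2))
    show ((a : X) : H) * (b : X) = (b : X) * (a : X)
    rw [show ((a : X) : H) = a' from hae.symm, show ((b : X) : H) = b' from hbe.symm]
    exact congrArg (fun w => ((w : P) : (S : Subgroup H)).1) (hc.is_comm.comm ⟨a', ha'⟩ ⟨b', hb'⟩)
  · intro a ha b hb hao hbo
    have hca : ∀ {c : (S : Subgroup H)} (hc : c ∈ P), orderOf c = 2 →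
        orderOf (⟨(c : H), hc⟩ : X) = 2 := fun {c} hc h => by
      exact (Subgroup.orderOf_coe _).symm.trans ((Subgroup.orderOf_coe c).trans h)
    obtain ⟨z, hz⟩ := exists_prime_orderOf_dvd_card' 2 (hcard ▸ dvd_rfl : 2 ∣ Nat.card (center X))
    have hzo : orderOf (z : X) = 2 := by rw [Subgroup.orderOf_coe]; exact hz
    have h1 := CfsgLib.Invol.rankOne_eq_of_commute hk (hca ha hao) hzo (mem_center_iff.1 z.2 _)
    have h2 := CfsgLib.Invol.rankOne_eq_of_commute hk (hca hb hbo) hzo (mem_center_iff.1 z.2 _)
    exact Subtype.ext (congrArg Subtype.val (h1.trans h2.symm) :)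

end CfsgLib.InvChar.QWQuat
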