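import Cfsg.Agent.Lib.Recog.GW.RankOne
import Cfsg.Agent.Lib.Recog.GW.Reduce
import Cfsg.Agent.Lib.Recog.GW.QuaternionSylow
import Cfsg.Agent.Lib.StructC.HuppertRegular
import Cfsg.Agent.Lib.Invol.DihedralFusion
import Mathlib

/-!
# Solvable groups of 2-rank one without index-two subgroups: `SL(2, 3)`
-/

set_option autoImplicit false
set_option linter.style.haveILetI false

namespace CfsgLib.InvChar.QWQuat

open Subgroup

universe u

theorem alt_four_centraliser : ∀ a b : alternatingGroup (Fin 4),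
    a * a * a = 1 → a ≠ 1 → b * b = 1 → b ≠ 1 → a * b ≠ b * a := by
  decide +kernel

/-- A solvable group without odd core, without subgroups of index two and with quaternion Sylow
2-subgroups is `SL(2, 3)`. -/
theorem solvable_sl_two_three {K : Type u} [Group K] [Finite K] [Group.IsSolvable K]
    (hidx : ∀ M : Subgroup K, M.index ≠ 2) (hO : Cfsg.oddCore K = ⊥)
    (hQ : ∀ P : Sylow 2 K, ∃ m : ℕ, 1 ≤ m ∧ Nonempty ((P : Subgroup K) ≃* QuaternionGroup (2 ^ m))) :
    Nonempty (K ≃* Matrix.SpecialLinearGroup (Fin 2) (ZMod 3)) := by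
  haveI : Fact (Nat.Prime 2) := ⟨Nat.prime_two⟩
  have h1 : ∀ E : Subgroup K, ¬ IsKleinFour E := CfsgLib.Recog.GW.not_klein fun P => by
    obtain ⟨m, hm, e⟩ := hQ P
    exact ⟨m - 1, by rwa [Nat.sub_add_cancel hm]⟩
  obtain ⟨S⟩ := (inferInstance : Nonempty (Sylow 2 K))
  obtain ⟨k, hk, ⟨e⟩⟩ := hQ S
  haveI : NeZero (2 ^ k) := ⟨by positivity⟩
  have h2 : Even (Nat.card K) := even_iff_two_dvd.2 <| by
    refine dvd_trans ?_ (card_subgroup_dvd_card (S : Subgroup K))
    rw [Nat.card_congr e.toEquiv, Nat.card_eq_fintype_card, QuaternionGroup.card]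
    exact ⟨2 * 2 ^ k, by ring⟩
  have hnorm : ∀ N : Subgroup K, N.Normal → Odd (Nat.card N) → N = ⊥ := fun N hN hodd =>
    le_bot_iff.1 (hO ▸ CfsgLib.Invol.le_oddCore hN hodd)
  obtain ⟨z, hzc, hz⟩ := CfsgLib.Invol.centralInvol K h2 h1 hnorm
  set Z := zpowers z with hZdef
  have hZc : Z ≤ center K := zpowers_le.2 hzc
  haveI hZn : Z.Normal := ⟨fun a ha g => by
    rw [mem_center_iff.1 (hZc ha) g, mul_inv_cancel_right]; exact ha⟩
  let f : K →* K ⧸ Z := QuotientGroup.mk' Z
  have hf : Function.Surjective f := QuotientGroup.mk'_surjective Z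
  have hfk : f.ker = Z := QuotientGroup.ker_mk' Z
  have hinv : ∀ x : K, x * x = 1 → x ≠ 1 → x = z := fun x hx hx1 =>
    CfsgLib.Invol.rankOne_eq_of_commute h1
      (orderOf_eq_prime (by rw [pow_two, hx]) hx1) hz (mem_center_iff.1 hzc x)
  have hsq : ∀ x : K, x * x = 1 → x ∈ Z := fun x hx => by
    rcases eq_or_ne x 1 with rfl | h
    · exact one_mem _
    · rw [hinv x hx h]; exact mem_zpowers z
  have hcZ : Nat.card Z = 2 := by rw [hZdef, Nat.card_zpowers, hz]
  have hker : ∀ x, f x = 1 ↔ x ∈ center K ∧ x * x = 1 := fun x => by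
    rw [← MonoidHom.mem_ker, hfk]
    refine ⟨fun hx => ⟨hZc hx, ?_⟩, fun h => hsq x h.2⟩
    have h2' := pow_card_eq_one' (G := Z) (x := ⟨x, hx⟩)
    rw [hcZ, pow_two] at h2'
    exact congrArg Subtype.val h2'
  obtain ⟨T, ⟨eT⟩⟩ := CfsgLib.Recog.GW.sylow_dihedral f hf hker S e fun x _ hx => hZc (hsq x hx)
  have hOY : Cfsg.oddCore (K ⧸ Z) = ⊥ := by
    haveI : (Cfsg.oddCore (K ⧸ Z)).Normal := CfsgLib.Solvable.pPrimeCore_normal 2 _
    have hle : (Cfsg.oddCore (K ⧸ Z)).comap f ≤ Z := by
      refine CfsgLib.Fusion.le_of_central_of_odd hO inferInstance ?_ hZc ?_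
      · intro x hx
        rw [mem_comap, show f x = 1 from (QuotientGroup.eq_one_iff x).2 hx]
        exact one_mem _
      · have hb : Z.relIndex ((Cfsg.oddCore (K ⧸ Z)).comap f) =
            ((⊥ : Subgroup (K ⧸ Z)).comap f).relIndex ((Cfsg.oddCore (K ⧸ Z)).comap f) := by
          congr 1
          rw [MonoidHom.comap_bot, hfk]
        rw [hb, relIndex_comap, map_comap_eq_self_of_surjective hf, relIndex_bot_left]
        exact CfsgLib.Invol.odd_card_oddCore _
    refine (eq_bot_iff_forall _).2 fun y hy => ?_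
    obtain ⟨x, rfl⟩ := hf y
    exact (QuotientGroup.eq_one_iff x).2 (hle hy)
  haveI : Group.IsSolvable (K ⧸ Z) := Group.isSolvable_of_surjective hf
  obtain ⟨E⟩ := CfsgLib.Invol.exists_dihData T.2 (Nat.le_self_pow (by omega) 2) eT
  have hcK : Nat.card K = 2 * Nat.card (K ⧸ Z) := by
    rw [← Z.card_mul_index, hcZ, index_eq_card]
  rcases CfsgLib.Recog.GW.shape_of_solvable hOY T E with hp | ⟨⟨g⟩⟩ | ⟨⟨g⟩⟩
  · exfalso
    obtain ⟨n, hn⟩ := hp.exists_card_eq
    have hK2 : IsPGroup 2 K := IsPGroup.of_card (n := n + 1) (by rw [hcK, hn, pow_succ]; ring)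
    haveI : Nontrivial K := Finite.one_lt_card_iff_nontrivial.1 (by
      have := Nat.card_pos (α := K ⧸ Z); omega)
    obtain ⟨M, hM⟩ := Sylow.exists_subgroup_card_pow_prime 2
      (show 2 ^ n ∣ Nat.card K by rw [hcK, hn]; exact dvd_mul_left _ _)
    refine hidx M ?_
    have := M.card_mul_index
    rw [hM, hcK, hn, mul_comm] at this
    exact Nat.eq_of_mul_eq_mul_right (by positivity) this
  · have h24 : Nat.card K = 24 := by
      rw [hcK, Nat.card_congr g.toEquiv, nat_card_alternatingGroup, Nat.card_fin]; rfl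
    let φ : K →* alternatingGroup (Fin 4) := g.toMonoidHom.comp f
    have hφ : Function.Surjective φ := g.surjective.comp hf
    have hφk : φ.ker = Z := by
      rw [← hfk]; ext x; exact g.map_eq_one_iff
    have hφ1 : ∀ x, φ x = 1 → x * x = 1 := fun x hx => ((hker x).1 (g.map_eq_one_iff.1 hx)).2
    set V := alternatingGroup.kleinFour (Fin 4) with hV
    haveI : V.Normal :=
      haveI := alternatingGroup.characteristic_kleinFour (α := Fin 4) (by simp)
      inferInstance
    have hV4 : Nat.card V = 4 :=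
      (alternatingGroup.kleinFour_isKleinFour (by simp)).card_four
    set Q := V.comap φ with hQdef
    have hQ8 : Nat.card Q = 8 := by
      have h := Q.card_mul_index
      rw [index_comap_of_surjective V hφ, h24] at h
      have h' := V.card_mul_index
      rw [hV4, nat_card_alternatingGroup, Nat.card_fin] at h'
      norm_num [Nat.factorial] at h'
      rw [show V.index = 3 by omega] at h
      omega
    have hS8 : Nat.card (S : Subgroup K) = 8 := by
      obtain ⟨j, hj⟩ := IsPGroup.iff_card.1 S.2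
      have hge : 2 ^ 3 ∣ Nat.card (S : Subgroup K) :=
        S.pow_dvd_card_of_pow_dvd_card (by rw [h24]; norm_num)
      have hle := card_subgroup_dvd_card (S : Subgroup K)
      rw [hj, h24] at hle
      rw [hj] at hge ⊢
      have hj3 : 3 ≤ j := (Nat.pow_dvd_pow_iff_le_right (by norm_num)).1 hge
      have hj4 : j < 4 := by
        by_contra hc
        exact absurd ((pow_dvd_pow 2 (show 4 ≤ j by omega)).trans hle) (by norm_num)
      rw [show j = 3 by omega]; norm_num
    obtain ⟨P, hP⟩ := (IsPGroup.of_card (p := 2) (n := 3) (by rw [hQ8]; norm_num) :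
      IsPGroup 2 Q).exists_le_sylow
    have hQP : Q = (P : Subgroup K) := eq_of_le_of_card_ge hP (by
      obtain ⟨y, hy⟩ := MulAction.exists_smul_eq K S P
      rw [hQ8, ← hy, ← hS8]
      exact (Nat.card_congr (Sylow.equivSMul S y).toEquiv).symm.le)
    have hQna : ¬ IsMulCommutative Q := by
      intro hc
      obtain ⟨m, hm, ⟨eP⟩⟩ := hQ P
      haveI : NeZero (2 ^ m) := ⟨by positivity⟩
      have hm1 : m = 1 := by
        have := Nat.card_congr eP.toEquiv
        rw [← hQP, hQ8, Nat.card_eq_fintype_card, QuaternionGroup.card] at this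
        exact Nat.pow_right_injective le_rfl (show 2 ^ m = 2 ^ 1 by omega)
      subst hm1
      let eQ := (MulEquiv.subgroupCongr hQP).trans eP
      have := hc.is_comm.comm (eQ.symm (QuaternionGroup.a 1)) (eQ.symm (QuaternionGroup.xa 0))
      rw [← map_mul, ← map_mul] at this
      exact absurd (eQ.symm.injective this) (by decide)
    obtain ⟨c, hc⟩ := exists_prime_orderOf_dvd_card' (G := K) 3 (hp := ⟨Nat.prime_three⟩)
      (by rw [h24]; norm_num)
    refine CfsgLib.StructC.Huppert.sl23_of_order_24 h24 (fun a b ha hb => ?_) Q hQ8 hQna c hc ?_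
    · have hsq' : ∀ x : K, orderOf x = 2 → x = z := fun x hx =>
        hinv x (by rw [← pow_two, ← hx, pow_orderOf_eq_one])
          (fun e => by rw [e, orderOf_one] at hx; norm_num at hx)
      rw [hsq' a ha, hsq' b hb]
    · have hc3 : φ c * φ c * φ c = 1 := by
        rw [← map_mul, ← map_mul, ← pow_two, ← pow_succ, show 2 + 1 = orderOf c by rw [hc], pow_orderOf_eq_one, map_one]
      have hc1 : φ c ≠ 1 := fun h0 => by
        have := orderOf_dvd_of_pow_eq_one (x := c) (n := 2) (by rw [pow_two]; exact hφ1 c h0)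
        rw [hc] at this
        norm_num at this
      haveI : Nontrivial V := Finite.one_lt_card_iff_nontrivial.1 (by rw [hV4]; norm_num)
      obtain ⟨b, hb1⟩ := exists_ne (1 : V)
      obtain ⟨x, hx⟩ := hφ b
      refine ⟨x, by rw [hQdef, mem_comap, hx]; exact b.2, fun hcx => ?_⟩
      have hb2 : (b : alternatingGroup (Fin 4)) * b = 1 := by
        have h' := Monoid.pow_exponent_eq_one b
        rw [(alternatingGroup.kleinFour_isKleinFour (by simp)).exponent_two, pow_two] at h'
        exact congrArg Subtype.val h'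
      exact alt_four_centraliser (φ c) b hc3 hc1 hb2 (fun h0 => hb1 (Subtype.ext h0))
        (by rw [← hx, ← map_mul, ← map_mul, hcx])
  · exfalso
    let φ : K →* Equiv.Perm (Fin 4) := g.toMonoidHom.comp f
    refine hidx ((alternatingGroup (Fin 4)).comap φ) ?_
    rw [index_comap_of_surjective _ (g.surjective.comp hf)]
    exact alternatingGroup.index_eq_two

end CfsgLib.InvChar.QWQuat
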