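import Cfsg.Agent.Lib.InvChar.QWQuat.Exclude
import Cfsg.Agent.Lib.InvChar.QWQuat.Solvable
import Cfsg.Agent.Lib.Classical.SLGen
import Cfsg.Agent.Lib.ClassK.SmallSimple
import Cfsg.Agent.Lib.Solvable.PCore
import Mathlib

/-!
# A normal `SL₂(q)` under quasi-dihedral or wreathed Sylow 2-subgroups

The existence and uniqueness of the normal subgroup `SL₂(q)` in the quaternion case, from the
classification of perfect groups with dihedral Sylow 2-subgroups.
-/

set_option autoImplicit false
set_option linter.style.haveILetI false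

namespace CfsgLib.InvChar.QWQuat

open Subgroup
open scoped MatrixGroups commutatorElement

universe u

section SL

variable {F : Type*} [Field F] [Fintype F]

/-- `SL₂` in odd characteristic has no nontrivial 2-group quotient. -/
theorem hom_two_group_trivial (hodd : Odd (Fintype.card F)) {P : Type*} [Group P] [Finite P]
    (hP : IsPGroup 2 P) (f : SL(2, F) →* P) (A : SL(2, F)) : f A = 1 := by
  have hker : f.ker = ⊤ := CfsgLib.Classical.sl_transvection_induction _ fun i j hij c => by
    rw [MonoidHom.mem_ker]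
    have hn : ∀ n : ℕ, (Matrix.SpecialLinearGroup.transvection hij c) ^ n =
        Matrix.SpecialLinearGroup.transvection hij ((n : F) * c) := by
      intro n
      induction n with
      | zero => apply Subtype.ext; simp
      | succ n ih =>
        rw [pow_succ, ih]
        apply Subtype.ext
        rw [Matrix.SpecialLinearGroup.coe_mul]
        simp [Matrix.SpecialLinearGroup.transvection_coe, mul_add, add_mul,
          Matrix.single_mul_single_of_ne, hij.symm, add_comm]
        rw [← add_assoc, ← Matrix.single_add, add_comm]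
    have hq : (Matrix.SpecialLinearGroup.transvection hij c) ^ Fintype.card F = 1 := by
      rw [hn, FiniteField.cast_card_eq_zero, zero_mul]
      apply Subtype.ext; simp
    obtain ⟨k, hk⟩ := hP (f (Matrix.SpecialLinearGroup.transvection hij c))
    refine orderOf_eq_one_iff.1 (Nat.eq_one_of_dvd_coprimes (Nat.Coprime.pow_left k
      (Nat.coprime_two_left.2 hodd)) (orderOf_dvd_of_pow_eq_one hk)
      (orderOf_dvd_of_pow_eq_one (by rw [← map_pow, hq, map_one])))
  exact MonoidHom.mem_ker.1 (hker ▸ mem_top A)

omit [Fintype F] in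
/-- Central elements of `SL₂` square to one. -/
theorem center_sq {A : SL(2, F)} (h : A ∈ center (SL(2, F))) : A * A = 1 := by
  obtain ⟨c, hc, hA⟩ := Matrix.SpecialLinearGroup.mem_center_iff.1 h
  rw [Fintype.card_fin, sq] at hc
  apply Subtype.ext
  rw [Matrix.SpecialLinearGroup.coe_mul, ← hA, ← map_mul, hc, map_one]
  rfl

/-- An element of order four. -/
theorem exists_order_four (hodd : Odd (Fintype.card F)) :
    ∃ A : SL(2, F), orderOf A = 4 := by
  have h2 : (2 : F) ≠ 0 := fun h => by
    have hc := FiniteField.cast_card_eq_zero F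
    obtain ⟨j, hj⟩ := hodd
    rw [hj, Nat.cast_add, Nat.cast_mul, Nat.cast_ofNat, h, zero_mul, zero_add, Nat.cast_one] at hc
    exact one_ne_zero hc
  let W : SL(2, F) := ⟨!![0, 1; -1, 0], by simp [Matrix.det_fin_two]⟩
  have hW : (W ^ 2 : SL(2, F)).val = -1 := by
    rw [Matrix.SpecialLinearGroup.coe_pow, sq]
    ext i j
    fin_cases i <;> fin_cases j <;> simp [W, Matrix.mul_apply, Fin.sum_univ_two]
  refine ⟨W, orderOf_eq_prime_pow (p := 2) (n := 1) ?_ ?_⟩
  · intro h
    rw [pow_one] at h
    have h0 := congrFun (congrFun (hW.symm.trans (congrArg Subtype.val h)) 0) 0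
    simp at h0
    exact h2 (by linear_combination -h0)
  · apply Subtype.ext
    rw [show (2 : ℕ) ^ (1 + 1) = 2 * 2 from rfl, pow_mul, Matrix.SpecialLinearGroup.coe_pow, hW,
      neg_one_sq]
    rfl

end SL

variable {H : Type u} [Group H] [Finite H]

omit [Finite H] in
/-- A perfect subgroup lies in every term of the derived series. -/
theorem le_derived {K L : Subgroup H} (hLK : L ≤ K) (hL : _root_.commutator L = ⊤) (k : ℕ) :
    L ≤ (derivedSeries K k).map K.subtype := by
  induction k with
  | zero => rw [derivedSeries_zero, ← MonoidHom.range_eq_map, range_subtype]; exact hLK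
  | succ k ih =>
    have h1 : L = ⁅L, L⁆ := by
      conv_lhs => rw [← range_subtype L, MonoidHom.range_eq_map, ← hL, map_subtype_commutator]
    rw [derivedSeries_succ, map_commutator, h1]
    exact commutator_mono ih ih

/-- Proper normal subgroups of a perfect group with simple central quotient are central. -/
theorem le_center_or_eq_top {X : Type*} [Group X] (hperf : _root_.commutator X = ⊤)
    [IsSimpleGroup (X ⧸ center X)] (M : Subgroup X) [hM : M.Normal] : M ≤ center X ∨ M = ⊤ := by
  rcases (hM.map (QuotientGroup.mk' (center X))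
    (QuotientGroup.mk'_surjective _)).eq_bot_or_eq_top with h | h
  · left
    rwa [Subgroup.map_eq_bot_iff, QuotientGroup.ker_mk'] at h
  · right
    have h1 : M ⊔ center X = ⊤ := by
      rw [← QuotientGroup.ker_mk' (center X), ← comap_map_eq, h, comap_top]
    rw [eq_top_iff, ← hperf, _root_.commutator_def, commutator_le]
    intro a _ b _
    obtain ⟨m, hm, z, hz, rfl⟩ := mem_sup_of_normal_right.1 (h1.ge (mem_top a))
    have : ⁅m * z, b⁆ = m * (b * m⁻¹ * b⁻¹) := by
      have hzb : Commute z b := (mem_center_iff.1 hz b).symm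
      rw [commutatorElement_def, mul_assoc m z b, hzb.eq, mul_inv_rev]
      group
    rw [this]
    exact mul_mem hm (hM.conj_mem _ (inv_mem hm) b)

/-- A group isomorphic to `SL₂(q)`, `q` odd, in a group with a normal subgroup of 2-power index,
lies in that subgroup. -/
theorem sl_le {F : Type*} [Field F] [Fintype F] (hodd : Odd (Fintype.card F)) {K L : Subgroup H}
    [K.Normal] {a : ℕ} (hK : K.index = 2 ^ a) (e : L ≃* SL(2, F)) : L ≤ K := by
  intro x hx
  haveI : Fact (Nat.Prime 2) := ⟨Nat.prime_two⟩
  have hP : IsPGroup 2 (H ⧸ K) := IsPGroup.of_card (n := a) (by rw [← index_eq_card, hK])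
  have := hom_two_group_trivial hodd hP
    (((QuotientGroup.mk' K).comp L.subtype).comp e.symm.toMonoidHom) (e ⟨x, hx⟩)
  simpa using this

/-- The quaternion case of the classification with quasi-dihedral or wreathed Sylow 2-subgroups. -/
theorem normal_sl_two (hGW : CfsgLib.Recog.GW.PerfectDihedral.{u}) (S : Sylow 2 H)
    (hS : Cfsg.IsQuasiDihedral (S : Subgroup H) ∨ Cfsg.IsWreathed (S : Subgroup H))
    (hO : Cfsg.oddCore H = ⊥) (K : Subgroup H) [K.Normal] {a : ℕ} (hKi : K.index = 2 ^ a)
    (hK2 : ∀ M : Subgroup K, M.index ≠ 2)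
    (hKq : ∀ P : Sylow 2 K, ∃ m : ℕ, 1 ≤ m ∧ Nonempty ((P : Subgroup K) ≃* QuaternionGroup (2 ^ m))) :
    ∃ L₀ : Subgroup H, L₀.Normal ∧ (∃ (F : Type) (_ : Field F) (_ : Fintype F),
      Odd (Fintype.card F) ∧ Nonempty (L₀ ≃* Matrix.SpecialLinearGroup (Fin 2) F)) ∧
      ∀ L₁ : Subgroup H, L₁.Normal → (∃ (F : Type) (_ : Field F) (_ : Fintype F),
        Odd (Fintype.card F) ∧ Nonempty (L₁ ≃* Matrix.SpecialLinearGroup (Fin 2) F)) → L₁ = L₀ := by
  classical
  haveI : Fact (Nat.Prime 2) := ⟨Nat.prime_two⟩
  have hk : ∀ E : Subgroup K, ¬ IsKleinFour E := CfsgLib.Recog.GW.not_klein fun P => by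
    obtain ⟨m, hm, e⟩ := hKq P
    exact ⟨m - 1, by rwa [Nat.sub_add_cancel hm]⟩
  have hcore : ∀ (N : Subgroup H) [N.Normal], Cfsg.oddCore N = ⊥ := fun N _ => by
    haveI : (Cfsg.oddCore N).Characteristic := CfsgLib.Solvable.pPrimeCore_characteristic 2 N
    have hle : (Cfsg.oddCore N).map N.subtype ≤ Cfsg.oddCore H := CfsgLib.Invol.le_oddCore
      inferInstance (by rw [card_map_of_injective N.subtype_injective]
                        exact CfsgLib.Invol.odd_card_oddCore N)
    rw [hO, le_bot_iff, map_eq_bot_iff_of_injective _ N.subtype_injective] at hle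
    exact hle
  by_cases hsol : Group.IsSolvable K
  · obtain ⟨e⟩ := solvable_sl_two_three hK2 (hcore K) hKq
    haveI : Fact (Nat.Prime 3) := ⟨Nat.prime_three⟩
    refine ⟨K, inferInstance, ⟨ZMod 3, inferInstance, inferInstance,
      by rw [ZMod.card]; decide, ⟨e⟩⟩, ?_⟩
    rintro L₁ hn ⟨F, iF, iF', hodd, ⟨e₁⟩⟩
    have hle := sl_le hodd hKi e₁
    refine eq_of_le_of_card_ge hle ?_
    haveI : Group.IsSolvable L₁ :=
      Group.isSolvable_of_isSolvable_injective (f := Subgroup.inclusion hle) (inclusion_injective hle)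
    have hF3 : Fintype.card F = 3 := by
      by_contra hne
      have hq : 3 < Fintype.card F := by
        have := Fintype.one_lt_card (α := F)
        obtain ⟨j, hj⟩ := hodd
        omega
      haveI : Group.IsSolvable SL(2, F) :=
        Group.isSolvable_of_surjective (f := e₁.toMonoidHom) e₁.surjective
      haveI : Group.IsPerfect SL(2, F) := ⟨CfsgLib.Recog.GW.commutator_sl_two hq⟩
      haveI : Nontrivial SL(2, F) := by
        obtain ⟨A, hA⟩ := exists_order_four hodd
        exact ⟨⟨A, 1, fun h => by rw [h, orderOf_one] at hA; norm_num at hA⟩⟩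
      exact Group.IsPerfect.not_isSolvable SL(2, F) inferInstance
    rw [Nat.card_congr e.toEquiv, Nat.card_congr e₁.toEquiv, CfsgLib.Classical.card_sl_two_eq,
      CfsgLib.Classical.card_sl_two_eq, hF3, ZMod.card]
  -- the solvable residual
  obtain ⟨k, hk'⟩ := CfsgLib.Recog.GW.derivedSeries_stable (G := K)
  set X := (derivedSeries K k).map K.subtype with hXdef
  haveI hXn : X.Normal := inferInstance
  have hXK : X ≤ K := map_subtype_le _
  have hXperf : _root_.commutator X = ⊤ := by
    apply map_injective X.subtype_injective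
    rw [map_subtype_commutator, ← MonoidHom.range_eq_map, range_subtype, hXdef, ← map_commutator,
      ← derivedSeries_succ, hk']
  haveI : Nontrivial X := by
    rw [nontrivial_iff_ne_bot]
    intro h
    rw [hXdef, map_eq_bot_iff_of_injective _ K.subtype_injective] at h
    exact hsol ((Group.isSolvable_def K).2 ⟨k, h⟩)
  haveI : Group.IsPerfect X := ⟨hXperf⟩
  have hkX : ∀ E : Subgroup X, ¬ IsKleinFour E := fun E hE => by
    refine hk (E.map (inclusion hXK)) ?_
    have e' := E.equivMapOfInjective _ (inclusion_injective hXK)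
    haveI := hE
    exact ⟨(Nat.card_congr e'.toEquiv).symm.trans hE.card_four,
      (Monoid.exponent_eq_of_mulEquiv e').symm.trans hE.exponent_two⟩
  have heven : Even (Nat.card X) := by
    rw [← Nat.not_odd_iff_even]
    exact fun h => Group.IsPerfect.not_isSolvable X (CfsgLib.FT.odd_order_solvable h)
  rcases CfsgLib.Recog.GW.rank_one_core hGW hXperf hkX heven (hcore X) with
    ⟨F, iF, iF', hodd, hq, ⟨e⟩⟩ | ⟨hc2, ⟨e⟩, -⟩
  · refine ⟨X, hXn, ⟨F, iF, iF', hodd, ⟨e⟩⟩, ?_⟩
    rintro L₁ hn ⟨F₁, iF₁, iF₁', hodd₁, ⟨e₁⟩⟩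
    have hle := sl_le hodd₁ hKi e₁
    have hcen : ∀ z ∈ center X, z * z = 1 := fun z hz => by
      refine e.injective ?_
      rw [map_mul, map_one]
      exact center_sq (mem_center_iff.2 fun y => by
        obtain ⟨w, rfl⟩ := e.surjective y
        rw [← map_mul, ← map_mul, mem_center_iff.1 hz w])
    haveI : IsSimpleGroup (X ⧸ center X) := by
      haveI := CfsgLib.ClassK.isSimpleGroup_psl_two (F := F) (by omega)
      refine (QuotientGroup.congr (center X) (center SL(2, F)) e ?_).isSimpleGroup_congr.2 ‹_›
      ext y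
      obtain ⟨w, rfl⟩ := e.surjective y
      simp only [Subgroup.mem_map, mem_center_iff]
      constructor
      · rintro ⟨v, hv, hvw⟩ u
        obtain ⟨u, rfl⟩ := e.surjective u
        rw [← e.injective hvw, ← map_mul, ← map_mul, hv u]
      · exact fun h => ⟨w, fun u => e.injective (by rw [map_mul, map_mul]; exact h (e u)), rfl⟩
    by_cases hq₁ : 3 < Fintype.card F₁
    · have hL₁ : _root_.commutator L₁ = ⊤ := CfsgLib.Recog.GW.commutator_eq_top_of_surjective
        e₁.symm.toMonoidHom e₁.symm.surjective (CfsgLib.Recog.GW.commutator_sl_two hq₁)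
      have hLX : L₁ ≤ X := le_derived hle hL₁ k
      rcases le_center_or_eq_top hXperf (L₁.subgroupOf X) with h | h
      · exfalso
        haveI : Nontrivial L₁ := by
          obtain ⟨A, hA⟩ := exists_order_four hodd₁
          exact ⟨⟨e₁.symm A, 1, fun h => by
            rw [← e₁.symm.orderOf_eq, h, orderOf_one] at hA; norm_num at hA⟩⟩
        exact CfsgLib.Recog.GW.not_perfect_of_commutative hL₁ ⟨⟨fun u v => Subtype.ext
          (congrArg Subtype.val (mem_center_iff.1 (h (mem_subgroupOf.2 u.2 :
            (⟨u, hLX u.2⟩ : X) ∈ L₁.subgroupOf X)) ⟨v, hLX v.2⟩)).symm⟩⟩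
      · exact le_antisymm hLX (subgroupOf_eq_top.1 h)
    · exfalso
      have hcardL : Nat.card L₁ = 24 := by
        have := Fintype.one_lt_card (α := F₁)
        obtain ⟨j, hj⟩ := hodd₁
        rw [Nat.card_congr e₁.toEquiv, CfsgLib.Classical.card_sl_two_eq,
          show Fintype.card F₁ = 3 by omega]
        norm_num
      have hM : L₁.subgroupOf X ≤ center X := by
        refine (le_center_or_eq_top hXperf _).resolve_right fun h => ?_
        haveI := CfsgLib.ClassK.isSimpleGroup_psl_two (F := F) (by omega)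
        have h1 := card_le_of_le (subgroupOf_eq_top.1 h)
        rw [hcardL, Nat.card_congr e.toEquiv, CfsgLib.Classical.card_sl_two_eq] at h1
        obtain ⟨j, hj⟩ := hodd
        have h5 : 5 ^ 2 ≤ Fintype.card F ^ 2 := Nat.pow_le_pow_left (by omega) 2
        have h6 := Nat.mul_le_mul (show 5 ≤ Fintype.card F by omega)
          (show 24 ≤ Fintype.card F ^ 2 - 1 by omega)
        omega
      obtain ⟨A, hA⟩ := exists_order_four hodd₁
      obtain ⟨B, hB⟩ := exists_order_four hodd
      set x : L₁ := e₁.symm A
      set y : X := e.symm B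
      have hxo : orderOf (x : H) = 4 := by rw [Subgroup.orderOf_coe, MulEquiv.orderOf_eq, hA]
      have hyo : orderOf (y : H) = 4 := by rw [Subgroup.orderOf_coe, MulEquiv.orderOf_eq, hB]
      have hxy : Commute (x : H) y := by
        refine commute_of_mod_center hXperf (fun w => hM ?_) y y.2
        rw [mem_subgroupOf, Subgroup.coe_mul, Subgroup.coe_inv, MulAut.conjNormal_apply]
        have h1 : (w : H)⁻¹ * x * (w : H) ∈ L₁ := by simpa using hn.conj_mem _ x.2 (w : H)⁻¹
        have := mul_mem h1 (inv_mem x.2)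
        simpa [mul_assoc] using this
      set x' : K := ⟨x, hle x.2⟩
      set y' : K := ⟨y, hXK y.2⟩
      have hxo' : orderOf x' = 4 := by rw [← Subgroup.orderOf_coe]; exact hxo
      have hyo' : orderOf y' = 4 := by rw [← Subgroup.orderOf_coe]; exact hyo
      have hc' : Commute x' y' := Subtype.ext hxy.eq
      have hx2 : orderOf (x' ^ 2) = 2 := by
        rw [orderOf_pow' _ (by norm_num), hxo']; norm_num
      have hy2 : orderOf (y' ^ 2) = 2 := by
        rw [orderOf_pow' _ (by norm_num), hyo']; norm_num
      have heq : x' ^ 2 = y' ^ 2 :=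
        CfsgLib.Invol.rankOne_eq_of_commute hk hx2 hy2 (hc'.pow_pow 2 2)
      have hw : (x' * y'⁻¹) ^ 2 = 1 := by rw [hc'.inv_right.mul_pow, inv_pow, heq, mul_inv_cancel]
      have hxX : (x : H) ∈ X := by
        by_cases h1 : x' * y'⁻¹ = 1
        · rw [show (x : H) = y from congrArg Subtype.val (mul_inv_eq_one.1 h1)]
          exact y.2
        · have h2 := CfsgLib.Invol.rankOne_eq_of_commute hk (orderOf_eq_prime hw h1) hy2
            ((hc'.mul_left (Commute.refl y').inv_left).pow_right 2 |> fun h => by
              simpa using (hc'.mul_left (Commute.inv_left (Commute.refl y'))).pow_right 2)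
          have h3 : x' = y' ^ 2 * y' := mul_inv_eq_iff_eq_mul.1 h2
          rw [show (x : H) = (y : H) ^ 2 * y from congrArg Subtype.val h3]
          exact mul_mem (pow_mem y.2 2) y.2
      have h4 := hcen ⟨x, hxX⟩ (hM (mem_subgroupOf.2 x.2))
      have h5 := orderOf_dvd_of_pow_eq_one (x := (x : H)) (n := 2)
        (by rw [sq]; exact congrArg Subtype.val h4)
      rw [hxo] at h5
      norm_num at h5
  · exact (alt_seven_false S hS X hXperf hc2 e hkX).elim

end CfsgLib.InvChar.QWQuat
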